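import Cfsg.Agent.H35.TCMain

/-!
# Lower bounds for the order from a stabiliser chain, and a normal-subgroup criterion (helper10)

On top of helper35's permutation certificates: orbit trees for words fixing the earlier base
points give `|G| ≥ ∏ (orbit sizes)`; a normal subgroup not inside a point stabiliser has an orbit
that is a union of suborbits.
-/

set_option autoImplicit false

namespace Cfsg.Agent.H10

open Cfsg.Agent.H35

section Lvl

variable {γ : Type} (D : PData γ)

/-- orbit-tree check at the point `p`: field `k` of `lab p` is the rank (`0`: not in the tree,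
`1`: the root `b`), field `k + 1` the index of a word taking `p` to a point of smaller rank -/
noncomputable def lvlOK (lab : ℕ → ℕ) (k : ℕ) (ws : List (List γ)) (b p : ℕ) : Bool :=
  cond (Nat.beq (fld 16 (lab p) k) 0) true
    (cond (Nat.beq (fld 16 (lab p) k) 1) (Nat.beq p b)
      (Nat.ble 1 (fld 16 (lab (D.walk (ws.getD (fld 16 (lab p) (Nat.succ k)) []) p)) k) &&
        Nat.ble (Nat.succ (fld 16 (lab (D.walk (ws.getD (fld 16 (lab p) (Nat.succ k)) []) p)) k))
          (fld 16 (lab p) k)))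

/-- the words fix the points -/
noncomputable def fixOK (ws : List (List γ)) (bs : List ℕ) : Bool :=
  ws.all (fun w => bs.all (fun c => Nat.beq (D.walk w c) c))

theorem getD_mem_or {α : Type*} (l : List α) (i : ℕ) (d : α) :
    l.getD i d ∈ l ∨ l.getD i d = d := by
  rw [List.getD_eq_getElem?_getD]
  cases hq : l[i]? with
  | none => right; rfl
  | some w => left; exact List.mem_of_getElem? hq

variable {D}

theorem fixOK_mem {G : Type*} [Group G] (gen : γ → G) (ρ : G →* Equiv.Perm (Fin D.N))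
    (hw : ∀ (w : List γ) (p : Fin D.N), D.walk w p.val = ((ρ (uw gen w))⁻¹ p).val)
    (ws : List (List γ)) (bs : List ℕ) (h : fixOK D ws bs = true) (w : List γ) (hwm : w ∈ ws)
    (c : Fin D.N) (hc : c.val ∈ bs) : uw gen w ∈ stabOf ρ c := by
  unfold fixOK at h
  rw [List.all_eq_true] at h
  have h1 := h w hwm
  rw [List.all_eq_true] at h1
  have h2 := h1 c.val hc
  rw [Nat.beq_eq, hw w c] at h2
  have h3 : (ρ (uw gen w))⁻¹ c = c := Fin.ext h2
  rw [mem_stabOf]
  rw [Equiv.Perm.inv_eq_iff_eq] at h3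
  exact h3.symm

/-- the points of positive rank are in the orbit of the root -/
theorem lvl_orbit {G : Type*} [Group G] (gen : γ → G) (ρ : G →* Equiv.Perm (Fin D.N))
    (hw : ∀ (w : List γ) (p : Fin D.N), D.walk w p.val = ((ρ (uw gen w))⁻¹ p).val)
    (K : Subgroup G) (lab : ℕ → ℕ) (k : ℕ) (ws : List (List γ)) (b : Fin D.N)
    (hK : ∀ w ∈ ws, uw gen w ∈ K)
    (hok : ∀ p, p < D.N → lvlOK D lab k ws b.val p = true) :
    ∀ (r : ℕ) (p : Fin D.N), fld 16 (lab p.val) k = r → 1 ≤ r → ∃ g ∈ K, ρ g b = p := by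
  intro r
  induction r using Nat.strong_induction_on with
  | _ r ih =>
    intro p hr h1
    have h := hok p.val p.isLt
    unfold lvlOK at h
    have hb0 : Nat.beq (fld 16 (lab p.val) k) 0 = false := by
      rw [hr, Bool.eq_false_iff]; intro hb; rw [Nat.beq_eq] at hb; omega
    rw [hb0, cond_false] at h
    by_cases h1' : r = 1
    · have hb1 : Nat.beq (fld 16 (lab p.val) k) 1 = true := by rw [hr, h1']; rfl
      rw [hb1, cond_true, Nat.beq_eq] at h
      exact ⟨1, K.one_mem, by rw [map_one]; exact Fin.ext h.symm⟩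
    · have hb1 : Nat.beq (fld 16 (lab p.val) k) 1 = false := by
        rw [hr, Bool.eq_false_iff]; intro hb; rw [Nat.beq_eq] at hb; exact h1' hb
      rw [hb1, cond_false, Bool.and_eq_true, Nat.ble_eq, Nat.ble_eq] at h
      have hmem := getD_mem_or ws (fld 16 (lab p.val) (Nat.succ k)) []
      generalize ws.getD (fld 16 (lab p.val) (Nat.succ k)) [] = w at h hmem
      have hwK : uw gen w ∈ K := by
        rcases hmem with hm | rfl
        · exact hK w hm
        · rw [uw_nil]; exact K.one_mem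
      rw [hw w p] at h
      obtain ⟨g', hg', e⟩ := ih _ (by omega) ((ρ (uw gen w))⁻¹ p) rfl h.1
      refine ⟨uw gen w * g', K.mul_mem hwK hg', ?_⟩
      rw [map_mul, Equiv.Perm.mul_apply, e, perm_apply_inv_self]

end Lvl

section Count

/-- counting over `Fin N` by the counting loop -/
theorem card_filter_fin (f : ℕ → Bool) (N d : ℕ) (hN : N ≤ 2 ^ d) :
    ((Finset.univ : Finset (Fin N)).filter (fun p => f p.val = true)).card = cntR f N d 0 := by
  rw [cntR_card f N d hN]
  rw [← Finset.card_map Fin.valEmbedding]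
  congr 1
  ext i
  simp only [Finset.mem_map, Finset.mem_filter, Finset.mem_univ, true_and, Fin.valEmbedding_apply,
    Finset.mem_range]
  constructor
  · rintro ⟨p, hp, rfl⟩; exact ⟨p.isLt, hp⟩
  · rintro ⟨hi, hf⟩; exact ⟨⟨i, hi⟩, hf, rfl⟩

end Count

section Chain

variable {G : Type*} [Group G] [Finite G] {n : ℕ} (ρ : G →* Equiv.Perm (Fin n))

/-- one step of a stabiliser chain -/
theorem level_step (K : Subgroup G) (b : Fin n) (O : Finset (Fin n))
    (hO : ∀ x ∈ O, ∃ g ∈ K, ρ g b = x) :
    O.card * Nat.card (K ⊓ stabOf ρ b : Subgroup G) ≤ Nat.card K := by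
  classical
  choose! c hcK hcb using hO
  let f : O × (K ⊓ stabOf ρ b : Subgroup G) → K := fun x =>
    ⟨c x.1.1 * x.2.1, K.mul_mem (hcK _ x.1.2) x.2.2.1⟩
  have hf : Function.Injective f := by
    rintro ⟨⟨x, hx⟩, ⟨s, hs⟩⟩ ⟨⟨y, hy⟩, ⟨s', hs'⟩⟩ e
    have e' : c x * s = c y * s' := congrArg Subtype.val e
    have hsx : ρ s b = b := hs.2
    have hsy : ρ s' b = b := hs'.2
    have hxy : x = y := by
      have h1 : ρ (c x * s) b = x := by rw [map_mul, Equiv.Perm.mul_apply, hsx, hcb x hx]
      have h2 : ρ (c y * s') b = y := by rw [map_mul, Equiv.Perm.mul_apply, hsy, hcb y hy]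
      rw [← h1, e', h2]
    subst hxy
    have hss : s = s' := mul_left_cancel e'
    subst hss
    rfl
  have := Nat.card_le_card_of_injective f hf
  rw [Nat.card_prod, Nat.card_eq_fintype_card (α := O), Fintype.card_coe] at this
  exact this

end Chain

section Normal

/-- `|K : H| * |H| = |K|` for `H ≤ K`. -/
theorem relIndex_mul_card'' {G : Type*} [Group G] {H K : Subgroup G} (h : H ≤ K) :
    H.relIndex K * Nat.card H = Nat.card K := by
  have h1 := Subgroup.card_mul_index (H.subgroupOf K)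
  rw [Nat.card_congr (Subgroup.subgroupOfEquivOfLe h).toEquiv] at h1
  rw [Subgroup.relIndex, ← h1, mul_comm]

/-- A normal subgroup `N` not contained in the point stabiliser `H` of a transitive action on
`n` points, all of whose non-trivial suborbits have at least `m` points: the number
`|N : N ∩ H|` is at least `m + 1`, divides `n` and divides `|N|`. -/
theorem normal_le_or_relIndex {G : Type*} [Group G] [Finite G] {n : ℕ}
    (ρ : G →* Equiv.Perm (Fin n)) (ω0 : Fin n) (htr : ∀ ω : Fin n, ∃ g : G, ρ g ω0 = ω)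
    (m : ℕ) (hm : ∀ ω : Fin n, ω ≠ ω0 → ∃ O : Finset (Fin n), m ≤ O.card ∧ ω0 ∉ O ∧
      ∀ x ∈ O, ∃ h ∈ stabOf ρ ω0, ρ h ω = x)
    (N : Subgroup G) [hN : N.Normal] :
    N ≤ stabOf ρ ω0 ∨ (m + 1 ≤ (stabOf ρ ω0).relIndex N ∧ (stabOf ρ ω0).relIndex N ∣ n ∧
      (stabOf ρ ω0).relIndex N ∣ Nat.card N) := by
  classical
  by_cases hNH : N ≤ stabOf ρ ω0
  · exact Or.inl hNH
  right
  set H := stabOf ρ ω0 with hH
  obtain ⟨g, hgN, hgH⟩ := SetLike.not_le_iff_exists.mp hNH
  have hω : ρ g ω0 ≠ ω0 := hgH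
  obtain ⟨O, hOm, hO0, hO⟩ := hm _ hω
  choose! c hcH hcb using hO
  -- elements of `N` moving `ω0` to the points of `O`, and `1`
  let e : Option O → N := fun o =>
    match o with
    | none => 1
    | some x => ⟨c x.1 * g * (c x.1)⁻¹, hN.conj_mem g hgN (c x.1)⟩
  have he : ∀ x : O, ρ ((e (some x) : N) : G) ω0 = x.1 := by
    intro x
    show ρ (c x.1 * g * (c x.1)⁻¹) ω0 = x.1
    have h1 : ρ (c x.1)⁻¹ ω0 = ω0 := (H.inv_mem (hcH x.1 x.2))
    rw [map_mul, map_mul, Equiv.Perm.mul_apply, Equiv.Perm.mul_apply, h1]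
    exact hcb x.1 x.2
  have he0 : ρ ((e none : N) : G) ω0 = ω0 := by
    show ρ (1 : G) ω0 = ω0
    rw [map_one]; rfl
  let q : Option O → N ⧸ (H.subgroupOf N) := fun o => QuotientGroup.mk (e o)
  have hq : Function.Injective q := by
    intro o1 o2 h
    have h' : (e o1)⁻¹ * e o2 ∈ H.subgroupOf N := QuotientGroup.eq.mp h
    rw [Subgroup.mem_subgroupOf] at h'
    have h2' : ((e o1 : N) : G)⁻¹ * ((e o2 : N) : G) ∈ H := by simpa using h'
    have h'' : ρ (((e o1 : N) : G)⁻¹ * ((e o2 : N) : G)) ω0 = ω0 := h2'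
    have hpt : ρ ((e o1 : N) : G) ω0 = ρ ((e o2 : N) : G) ω0 := by
      rw [map_mul, map_inv, Equiv.Perm.mul_apply, Equiv.Perm.inv_eq_iff_eq] at h''
      exact h''.symm
    match o1, o2 with
    | none, none => rfl
    | some a, some b =>
      rw [he a, he b] at hpt
      rw [Subtype.ext hpt]
    | none, some b =>
      rw [he b, he0] at hpt
      exact absurd (hpt ▸ b.2) hO0
    | some a, none =>
      rw [he a, he0] at hpt
      exact absurd (hpt ▸ a.2) hO0
  have hidx : m + 1 ≤ H.relIndex N := by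
    have h1 := Nat.card_le_card_of_injective q hq
    rw [Nat.card_eq_fintype_card, Fintype.card_option, Fintype.card_coe] at h1
    have h2 : Nat.card (N ⧸ H.subgroupOf N) = H.relIndex N := rfl
    omega
  have hb1 : H.relIndex N ∣ Nat.card N := Subgroup.relIndex_dvd_card H N
  have hsup : Nat.card (H ⊔ N : Subgroup G) * Nat.card (H ⊓ N : Subgroup G) =
      Nat.card H * Nat.card N := by
    have h1 : N.relIndex (H ⊔ N) = N.relIndex H := Subgroup.relIndex_sup_right H N
    have h2 : N.relIndex (H ⊔ N) * Nat.card N = Nat.card (H ⊔ N : Subgroup G) :=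
      relIndex_mul_card'' le_sup_right
    have h3 : N.relIndex H * Nat.card (H ⊓ N : Subgroup G) = Nat.card H := by
      rw [← Subgroup.inf_relIndex_left H N]
      exact relIndex_mul_card'' inf_le_left
    rw [← h2, h1, ← h3]
    ring
  have hb2 : H.relIndex N * Nat.card (H ⊓ N : Subgroup G) = Nat.card N := by
    rw [← Subgroup.inf_relIndex_right H N]
    exact relIndex_mul_card'' inf_le_right
  have hpos : 0 < Nat.card (H ⊓ N : Subgroup G) := Nat.card_pos
  have hposH : 0 < Nat.card H := Nat.card_pos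
  have hb3 : Nat.card (H ⊔ N : Subgroup G) = H.relIndex N * Nat.card H := by
    have : Nat.card (H ⊔ N : Subgroup G) * Nat.card (H ⊓ N : Subgroup G) =
        H.relIndex N * Nat.card H * Nat.card (H ⊓ N : Subgroup G) := by
      rw [hsup, ← hb2]; ring
    exact Nat.eq_of_mul_eq_mul_right hpos this
  have hcard : Nat.card G = n * Nat.card H := by
    have h1 := Subgroup.card_mul_index H
    have h2 : H.index = n := by
      rw [hH, index_stabOf ρ ω0 htr, Fintype.card_fin]
    rw [h2] at h1
    rw [← h1, mul_comm]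
  have hb4 : H.relIndex N ∣ n := by
    have h := Subgroup.card_subgroup_dvd_card (H ⊔ N : Subgroup G)
    rw [hb3, hcard] at h
    exact Nat.dvd_of_mul_dvd_mul_right hposH h
  exact ⟨hidx, hb4, hb1⟩

/-- In a group whose order is not divisible by `p²`, a normal subgroup of order divisible by
`p` contains every element of order dividing `p`. -/
theorem mem_normal_of_pow_prime {G : Type*} [Group G] [Finite G] (p : ℕ) [hp : Fact p.Prime]
    (hpp : ¬ p ^ 2 ∣ Nat.card G) (N : Subgroup G) [N.Normal] (hN : p ∣ Nat.card N)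
    (a : G) (ha : a ^ p = 1) : a ∈ N := by
  have hcop : ¬ p ∣ Nat.card (G ⧸ N) := by
    intro h
    apply hpp
    rw [Subgroup.card_eq_card_quotient_mul_card_subgroup N, pow_two]
    exact Nat.mul_dvd_mul h hN
  have h1 : (QuotientGroup.mk a : G ⧸ N) ^ p = 1 := by
    rw [← QuotientGroup.mk_pow, ha]; rfl
  have h2 : orderOf (QuotientGroup.mk a : G ⧸ N) ∣ p := orderOf_dvd_of_pow_eq_one h1
  have h3 : orderOf (QuotientGroup.mk a : G ⧸ N) ∣ Nat.card (G ⧸ N) := orderOf_dvd_natCard _
  rcases (Nat.dvd_prime hp.out).mp h2 with h | h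
  · rw [orderOf_eq_one_iff] at h
    exact (QuotientGroup.eq_one_iff a).mp h
  · rw [h] at h3
    exact absurd h3 hcop

/-- Involutions joined by an odd Coxeter edge lie together in a normal subgroup. -/
theorem mem_normal_of_odd_edge {G : Type*} [Group G] (N : Subgroup G) [N.Normal] (x y : G)
    (k : ℕ) (hy : y * y = 1) (hxy : (x * y) ^ (2 * k + 1) = 1) (hx : x ∈ N) : y ∈ N := by
  rw [← QuotientGroup.eq_one_iff] at hx ⊢
  have h1 : ((QuotientGroup.mk x : G ⧸ N) * QuotientGroup.mk y) ^ (2 * k + 1) = 1 := by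
    rw [← QuotientGroup.mk_mul, ← QuotientGroup.mk_pow, hxy]; rfl
  rw [hx, one_mul] at h1
  have h2 : (QuotientGroup.mk y : G ⧸ N) * QuotientGroup.mk y = 1 := by
    rw [← QuotientGroup.mk_mul, hy]; rfl
  have h3 : (QuotientGroup.mk y : G ⧸ N) ^ (2 * k) = 1 := by
    rw [pow_mul, pow_two, h2, one_pow]
  rw [pow_succ, h3, one_mul] at h1
  exact h1

end Normal

end Cfsg.Agent.H10
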