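import Cfsg.Agent.H10.Tower
import Cfsg.Agent.H10.Bsgs

/-!
# Orbits of a normal subgroup as unions of suborbits; words in replay tables (helper10)

* `normal_orbit_colors`: for a normal subgroup `N` and a point stabiliser `H`, the orbit of the base
  point under `N` is the base point together with a union of `H`-orbits ("colour classes"), so
  `|N : N ∩ H| = 1 + ∑` of the sizes of some of the classes.
* `replay_word_mem`: a word that returns to the base name in a checked replay table lies in the
  subgroup of the enumeration; over the trivial subgroup it is the identity (`replay_word_one`).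
-/

set_option autoImplicit false

namespace Cfsg.Agent.H10

open Cfsg.Agent.H35

section Colors

theorem normal_orbit_colors {G : Type*} [Group G] [Finite G] {n : ℕ}
    (ρ : G →* Equiv.Perm (Fin n)) (ω0 : Fin n) (col : Fin n → ℕ) (r : ℕ)
    (hr : ∀ x, col x < r) (h0 : col ω0 = 0) (hne : ∀ ω, ω ≠ ω0 → col ω ≠ 0)
    (horb : ∀ x y, col x = col y → col x ≠ 0 → ∃ h ∈ stabOf ρ ω0, ρ h x = y)
    (N : Subgroup G) [hN : N.Normal] :
    ∃ I : Finset ℕ, I ⊆ Finset.range r ∧ 0 ∉ I ∧
      (stabOf ρ ω0).relIndex N =
        1 + ∑ i ∈ I, (Finset.univ.filter (fun x : Fin n => col x = i)).card := by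
  classical
  set H := stabOf ρ ω0 with hH
  let B : Finset (Fin n) := Finset.univ.filter (fun x => ∃ g ∈ N, ρ g ω0 = x)
  have hB0 : ω0 ∈ B := by
    rw [Finset.mem_filter]
    exact ⟨Finset.mem_univ _, 1, N.one_mem, by rw [map_one]; rfl⟩
  have hBH : ∀ x ∈ B, ∀ h ∈ H, ρ h x ∈ B := by
    intro x hx h hh
    rw [Finset.mem_filter] at hx ⊢
    obtain ⟨_, g, hg, rfl⟩ := hx
    refine ⟨Finset.mem_univ _, h * g * h⁻¹, hN.conj_mem g hg h, ?_⟩
    have h1 : ρ h⁻¹ ω0 = ω0 := H.inv_mem hh
    rw [map_mul, map_mul, Equiv.Perm.mul_apply, Equiv.Perm.mul_apply, h1]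
  have hcard : H.relIndex N = B.card := by
    have hfinq : Finite (N ⧸ H.subgroupOf N) := inferInstance
    have hB : ∀ x : B, ∃ g : N, ρ (g : G) ω0 = x.1 := by
      intro x
      obtain ⟨_, g, hg, e⟩ := Finset.mem_filter.mp x.2
      exact ⟨⟨g, hg⟩, e⟩
    choose e he using hB
    have hmk : ∀ a b : N, ρ (a : G) ω0 = ρ (b : G) ω0 →
        (QuotientGroup.mk a : N ⧸ H.subgroupOf N) = QuotientGroup.mk b := by
      intro a b hab
      rw [QuotientGroup.eq, Subgroup.mem_subgroupOf]
      show ρ (((a⁻¹ * b : N) : G)) ω0 = ω0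
      rw [Subgroup.coe_mul, Subgroup.coe_inv, map_mul, map_inv, Equiv.Perm.mul_apply, ← hab,
        perm_inv_apply_self]
    have hmk' : ∀ a b : N, (QuotientGroup.mk a : N ⧸ H.subgroupOf N) = QuotientGroup.mk b →
        ρ (a : G) ω0 = ρ (b : G) ω0 := by
      intro a b hab
      rw [QuotientGroup.eq, Subgroup.mem_subgroupOf] at hab
      have h1 : ρ (((a⁻¹ * b : N) : G)) ω0 = ω0 := hab
      rw [Subgroup.coe_mul, Subgroup.coe_inv, map_mul, map_inv, Equiv.Perm.mul_apply,
        Equiv.Perm.inv_eq_iff_eq] at h1
      exact h1.symm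
    have h1 : B.card ≤ Nat.card (N ⧸ H.subgroupOf N) := by
      have := Nat.card_le_card_of_injective
        (fun x : B => (QuotientGroup.mk (e x) : N ⧸ H.subgroupOf N))
        (by
          intro x y hxy
          have := hmk' _ _ hxy
          rw [he x, he y] at this
          exact Subtype.ext this)
      rwa [Nat.card_eq_fintype_card, Fintype.card_coe] at this
    have h2 : Nat.card (N ⧸ H.subgroupOf N) ≤ B.card := by
      have hmem : ∀ q : N ⧸ H.subgroupOf N, ρ ((Quotient.out q : N) : G) ω0 ∈ B := fun q =>
        Finset.mem_filter.mpr ⟨Finset.mem_univ _, _, (Quotient.out q).2, rfl⟩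
      have := Nat.card_le_card_of_injective
        (fun q : N ⧸ H.subgroupOf N => (⟨ρ ((Quotient.out q : N) : G) ω0, hmem q⟩ : B))
        (by
          intro q1 q2 h12
          have h3 : ρ ((Quotient.out q1 : N) : G) ω0 = ρ ((Quotient.out q2 : N) : G) ω0 :=
            congrArg Subtype.val h12
          have h4 := hmk _ _ h3
          rw [QuotientGroup.out_eq', QuotientGroup.out_eq'] at h4
          exact h4)
      rwa [Nat.card_eq_fintype_card (α := B), Fintype.card_coe] at this
    exact le_antisymm h2 h1
  let I : Finset ℕ := (B.erase ω0).image col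
  refine ⟨I, ?_, ?_, ?_⟩
  · intro i hi
    rw [Finset.mem_image] at hi
    obtain ⟨x, _, rfl⟩ := hi
    exact Finset.mem_range.mpr (hr x)
  · intro hi
    rw [Finset.mem_image] at hi
    obtain ⟨x, hx, hx0⟩ := hi
    rw [Finset.mem_erase] at hx
    exact hne x hx.1 hx0
  · rw [hcard]
    have hBe : B.erase ω0 = Finset.univ.filter (fun x => col x ∈ I) := by
      ext x
      rw [Finset.mem_filter]
      constructor
      · intro hx
        exact ⟨Finset.mem_univ _, Finset.mem_image_of_mem col hx⟩
      · rintro ⟨_, hx⟩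
        rw [Finset.mem_image] at hx
        obtain ⟨y, hy, hyx⟩ := hx
        rw [Finset.mem_erase] at hy ⊢
        have hy0 : col y ≠ 0 := hne y hy.1
        obtain ⟨h, hh, e⟩ := horb y x hyx hy0
        refine ⟨?_, e ▸ hBH y hy.2 h hh⟩
        intro hx0
        rw [hx0, h0] at hyx
        exact hy0 hyx
    have h1 : (B.erase ω0).card + 1 = B.card := Finset.card_erase_add_one hB0
    rw [← h1, hBe, add_comm]
    congr 1
    have hfib := Finset.card_eq_sum_card_fiberwise (f := col)
      (s := Finset.univ.filter (fun x : Fin n => col x ∈ I)) (t := I)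
      (fun x hx => (Finset.mem_filter.mp (Finset.mem_coe.mp hx)).2)
    rw [hfib]
    apply Finset.sum_congr rfl
    intro i hi
    congr 1
    ext x
    simp only [Finset.mem_filter, Finset.mem_univ, true_and]
    constructor
    · rintro ⟨_, h⟩; exact h
    · intro h; exact ⟨h ▸ hi, h⟩

end Colors

section Word

variable {γ : Type} {G : Type} [Group G] {D : RData γ} {H : Subgroup G} {gen : γ → G}

/-- a word that returns to the base name in a checked replay table lies in the subgroup -/
theorem replay_word_mem (hy : RHyp D H gen) (hgens : ∀ x : γ, x ∈ D.gens)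
    (hchk : ∀ p, p < D.M → D.chk p = true) (w : List γ) (hw : D.walkU 0 w 0 = 0) :
    uw gen w ∈ H := by
  have S := sound_all hy hgens hchk 0
  have h1 := walkU_cv S w 0 (by rw [hw]; decide)
  rw [hw, hy.cv0, actw_eq H gen hy.hinv, MulAction.Quotient.smul_coe, smul_eq_mul, mul_one,
    QuotientGroup.eq, inv_inv, mul_one] at h1
  exact h1

end Word

/-- the subgroup generated by the empty list of words is trivial -/
theorem swGrp_nil {γ : Type} {G : Type*} [Group G] (gen : γ → G) :
    swGrp gen ([] : List (List γ)) = ⊥ := by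
  unfold swGrp
  rw [Subgroup.closure_eq_bot_iff]
  rintro g ⟨w, hw, rfl⟩
  exact absurd hw (by simp)

/-- over the trivial subgroup, a word that returns to the base name is the identity -/
theorem replay_word_one {γ : Type} {G : Type} [Group G] {D : RData γ} {gen : γ → G}
    (hy : RHyp D (swGrp gen ([] : List (List γ))) gen) (hgens : ∀ x : γ, x ∈ D.gens)
    (hchk : ∀ p, p < D.M → D.chk p = true) (w : List γ) (hw : D.walkU 0 w 0 = 0) :
    uw gen w = 1 := by
  have h := replay_word_mem hy hgens hchk w hw
  rw [swGrp_nil, Subgroup.mem_bot] at h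
  exact h

/-- a homomorphism that agrees with the generators kept by `S` maps words in these generators
to the same words -/
theorem hom_uw_of_all {γ : Type} {G' : Type*} [Group G'] {Q : Type*} [Group Q] (gen' : γ → G')
    (genQ : γ → Q) (S : γ → Bool) (φ : Q →* G') (hφ : ∀ x, S x = true → φ (genQ x) = gen' x) :
    ∀ u : List γ, u.all S = true → φ (uw genQ u) = uw gen' u := by
  intro u
  induction u with
  | nil => intro _; simp [uw]
  | cons x u ih =>
    intro hu
    rw [List.all_cons, Bool.and_eq_true] at hu
    rw [uw_cons, uw_cons, map_mul, hφ x hu.1, ih hu.2]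

/-- a word in generators lying in a subgroup lies in the subgroup -/
theorem uw_mem_of_all {γ : Type} {G : Type*} [Group G] (gen : γ → G) (N : Subgroup G)
    (w : List γ) (h : ∀ x ∈ w, gen x ∈ N) : uw gen w ∈ N := by
  induction w with
  | nil => rw [uw_nil]; exact N.one_mem
  | cons x w ih =>
    rw [uw_cons]
    exact N.mul_mem (h x List.mem_cons_self) (ih (fun y hy => h y (List.mem_cons_of_mem x hy)))

end Cfsg.Agent.H10
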