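import Mathlib
import Cfsg.Prelude.Def_SporadicB

/-!
# Non-split double covers (helper10)

A group of twice the order of a centreless group `K` that maps onto `K` and has no subgroup of
index two is a non-split double cover of `K`.
-/

set_option autoImplicit false

namespace Cfsg.Agent.H10

/-- a normal subgroup of order two is central -/
theorem le_center_of_card_two {H : Type*} [Group H] (N : Subgroup H) [hN : N.Normal]
    (h2 : Nat.card N = 2) : N ≤ Subgroup.center H := by
  intro z hz
  rw [Subgroup.mem_center_iff]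
  intro g
  by_cases hz1 : z = 1
  · subst hz1; simp
  · have hconj : g * z * g⁻¹ ∈ N := hN.conj_mem z hz g
    have hne : g * z * g⁻¹ ≠ 1 := by
      intro h
      apply hz1
      have h3 : z = g⁻¹ * (g * z * g⁻¹) * g := by group
      rw [h3, h]; group
    obtain ⟨y, _, hy2⟩ := (Nat.card_eq_two_iff' (1 : N)).mp h2
    have e1 : (⟨z, hz⟩ : N) = y := hy2 _ (fun h => hz1 (Subtype.ext_iff.mp h))
    have e2 : (⟨g * z * g⁻¹, hconj⟩ : N) = y := hy2 _ (fun h => hne (Subtype.ext_iff.mp h))
    have e3 : g * z * g⁻¹ = z := Subtype.ext_iff.mp (e2.trans e1.symm)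
    calc g * z = g * z * g⁻¹ * g := by group
      _ = z * g := by rw [e3]

/-- a simple group whose order is not a prime has trivial centre -/
theorem center_eq_bot_of_simple {K : Type*} [Group K] [Finite K] [hK : IsSimpleGroup K]
    (hp : ¬ (Nat.card K).Prime) : Subgroup.center K = ⊥ := by
  rcases hK.eq_bot_or_eq_top_of_normal (Subgroup.center K) inferInstance with h | h
  · exact h
  · exfalso
    apply hp
    exact @IsSimpleGroup.prime_card K (Group.commGroupOfCenterEqTop h) hK

/-- the criterion for non-split double covers -/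
theorem nonsplitDoubleCover_of {H K : Type*} [Group H] [Group K] [Finite K] (ψ : H →* K)
    (hs : Function.Surjective ψ) (hK : Subgroup.center K = ⊥)
    (hcard : Nat.card H = 2 * Nat.card K)
    (hperf : ∀ L : Subgroup H, L.index ≠ 2) : Cfsg.IsNonsplitDoubleCover H K := by
  have hker : Nat.card ψ.ker = 2 := by
    have h1 := Subgroup.card_mul_index ψ.ker
    rw [Subgroup.index_ker, MonoidHom.range_eq_top.mpr hs, Subgroup.card_top, hcard] at h1
    have hpos : 0 < Nat.card K := Nat.card_pos
    exact Nat.eq_of_mul_eq_mul_right hpos h1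
  have hle : ψ.ker ≤ Subgroup.center H := le_center_of_card_two ψ.ker hker
  have hge : Subgroup.center H ≤ ψ.ker := by
    intro z hz
    rw [MonoidHom.mem_ker]
    have hc : ψ z ∈ Subgroup.center K := by
      rw [Subgroup.mem_center_iff]
      intro k
      obtain ⟨h, rfl⟩ := hs k
      rw [← map_mul, ← map_mul, (Subgroup.mem_center_iff.mp hz) h]
    rw [hK, Subgroup.mem_bot] at hc
    exact hc
  have heq : Subgroup.center H = ψ.ker := le_antisymm hge hle
  refine ⟨by rw [heq]; exact hker, ⟨?_⟩, ?_⟩
  · exact (QuotientGroup.quotientMulEquivOfEq heq).trans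
      (QuotientGroup.quotientKerEquivOfSurjective ψ hs)
  · intro L hL
    apply hperf L
    rw [hL.index_eq_card, heq, hker]

/-- membership of an odd power in a subgroup of index two -/
theorem pow_odd_mem_iff_of_index_two {H : Type*} [Group H] (L : Subgroup H) (h : L.index = 2)
    (g : H) (k : ℕ) : g ^ (2 * k + 1) ∈ L ↔ g ∈ L := by
  rw [pow_succ, Subgroup.mul_mem_iff_of_index_two h]
  have h2 : g ^ (2 * k) ∈ L := by
    rw [pow_mul]
    exact L.pow_mem (Subgroup.sq_mem_of_index_two h g) k
  exact ⟨fun hh => hh.mp h2, fun hg => ⟨fun _ => hg, fun _ => h2⟩⟩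

/-- in a subgroup of index two, an involution joined by an odd edge to a non-member is a
non-member -/
theorem not_mem_of_odd_edge {H : Type*} [Group H] (L : Subgroup H) (h : L.index = 2) (x y : H)
    (k : ℕ) (hxy : (x * y) ^ (2 * k + 1) = 1) (hx : x ∉ L) : y ∉ L := by
  intro hy
  have h1 : (x * y) ^ (2 * k + 1) ∈ L := by rw [hxy]; exact L.one_mem
  rw [pow_odd_mem_iff_of_index_two L h, Subgroup.mul_mem_iff_of_index_two h] at h1
  exact hx (h1.mpr hy)

end Cfsg.Agent.H10
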