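import Mathlib

set_option autoImplicit false

namespace Cfsg.Agent.H10

variable {G : Type*} [Group G]

theorem zpow_eq_of_zmod_eq {x : G} {n : ℕ} (hx : x ^ n = 1) {a b : ℤ}
    (h : (a : ZMod n) = (b : ZMod n)) : x ^ a = x ^ b := by
  rw [ZMod.intCast_eq_intCast_iff_dvd_sub] at h
  obtain ⟨k, hk⟩ := h
  have : b = a + n * k := by omega
  rw [this, zpow_add, zpow_mul, zpow_natCast, hx, one_zpow, mul_one]

/-- The "power" map `ZMod n → G` attached to an element with `x ^ n = 1`. -/
noncomputable def zmodPow (n : ℕ) (x : G) (i : ZMod n) : G := x ^ (ZMod.cast i : ℤ)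

theorem zmodPow_add {x : G} {n : ℕ} (hx : x ^ n = 1) (i j : ZMod n) :
    zmodPow n x (i + j) = zmodPow n x i * zmodPow n x j := by
  unfold zmodPow
  rw [← zpow_add]
  apply zpow_eq_of_zmod_eq hx
  push_cast
  rfl

theorem zmodPow_sub {x : G} {n : ℕ} (hx : x ^ n = 1) (i j : ZMod n) :
    zmodPow n x (j - i) = (zmodPow n x i)⁻¹ * zmodPow n x j := by
  unfold zmodPow
  rw [← zpow_neg, ← zpow_add]
  apply zpow_eq_of_zmod_eq hx
  push_cast
  ring

theorem zmodPow_zero {x : G} {n : ℕ} : zmodPow n x 0 = 1 := by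
  unfold zmodPow
  simp

theorem zmodPow_one {x : G} {n : ℕ} (hx : x ^ n = 1) : zmodPow n x 1 = x := by
  unfold zmodPow
  have : x ^ (ZMod.cast (1 : ZMod n) : ℤ) = x ^ (1 : ℤ) := by
    apply zpow_eq_of_zmod_eq hx
    simp only [ZMod.intCast_zmod_cast]
    simp
  rw [this, zpow_one]

/-- Conjugation by an inverting involution. -/
theorem zmodPow_conj {x y : G} {n : ℕ} (hy : y * y = 1) (hxy : y * x * y = x⁻¹) (i : ZMod n) :
    zmodPow n x i * y = y * (zmodPow n x i)⁻¹ := by
  unfold zmodPow
  have hyi : y⁻¹ = y := inv_eq_of_mul_eq_one_left hy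
  have h1 : y * x * y⁻¹ = x⁻¹ := by rw [hyi]; exact hxy
  have h2 : y * x ^ (ZMod.cast i : ℤ) * y⁻¹ = (x ^ (ZMod.cast i : ℤ))⁻¹ := by
    rw [← conj_zpow, h1, inv_zpow]
  rw [← h2, hyi]
  simp only [mul_assoc]
  rw [← mul_assoc y y, hy, one_mul]

/-- The homomorphism out of a dihedral group determined by a rotation `x` and a reflection `y`. -/
noncomputable def dihedralLift (n : ℕ) (x y : G) (hx : x ^ n = 1) (hy : y * y = 1)
    (hxy : y * x * y = x⁻¹) : DihedralGroup n →* G where
  toFun g := match g with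
    | DihedralGroup.r i => zmodPow n x i
    | DihedralGroup.sr i => y * zmodPow n x i
  map_one' := by
    show zmodPow n x 0 = 1
    exact zmodPow_zero
  map_mul' := by
    rintro (i | i) (j | j)
    · show zmodPow n x (i + j) = zmodPow n x i * zmodPow n x j
      exact zmodPow_add hx i j
    · show y * zmodPow n x (j - i) = zmodPow n x i * (y * zmodPow n x j)
      rw [zmodPow_sub hx, ← mul_assoc (zmodPow n x i) y, zmodPow_conj hy hxy]
      simp only [mul_assoc]
    · show y * zmodPow n x (i + j) = y * zmodPow n x i * zmodPow n x j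
      rw [zmodPow_add hx, mul_assoc]
    · show zmodPow n x (j - i) = y * zmodPow n x i * (y * zmodPow n x j)
      rw [zmodPow_sub hx, mul_assoc y, ← mul_assoc (zmodPow n x i) y, zmodPow_conj hy hxy]
      simp only [mul_assoc]
      rw [← mul_assoc y y, hy, one_mul]

theorem dihedralLift_r (n : ℕ) (x y : G) (hx : x ^ n = 1) (hy : y * y = 1)
    (hxy : y * x * y = x⁻¹) (i : ZMod n) :
    dihedralLift n x y hx hy hxy (DihedralGroup.r i) = zmodPow n x i := rfl

theorem dihedralLift_sr (n : ℕ) (x y : G) (hx : x ^ n = 1) (hy : y * y = 1)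
    (hxy : y * x * y = x⁻¹) (i : ZMod n) :
    dihedralLift n x y hx hy hxy (DihedralGroup.sr i) = y * zmodPow n x i := rfl

theorem dihedralLift_r_one (n : ℕ) (x y : G) (hx : x ^ n = 1) (hy : y * y = 1)
    (hxy : y * x * y = x⁻¹) :
    dihedralLift n x y hx hy hxy (DihedralGroup.r 1) = x := by
  rw [dihedralLift_r, zmodPow_one hx]

theorem dihedralLift_sr_zero (n : ℕ) (x y : G) (hx : x ^ n = 1) (hy : y * y = 1)
    (hxy : y * x * y = x⁻¹) :
    dihedralLift n x y hx hy hxy (DihedralGroup.sr 0) = y := by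
  rw [dihedralLift_sr, zmodPow_zero, mul_one]

/-- Two non-commuting involutions whose product has order three generate a copy of the
dihedral group of order six. -/
theorem dihedral3_lift_injective {d e : G} (hd : d * d = 1) (he : e * e = 1)
    (h3 : (d * e) ^ 3 = 1) (hne : d * e ≠ e * d)
    (hxy : d * (d * e) * d = (d * e)⁻¹) :
    Function.Injective (dihedralLift 3 (d * e) d h3 hd hxy) := by
  rw [injective_iff_map_eq_one]
  have hdi : d⁻¹ = d := inv_eq_of_mul_eq_one_left hd
  have hei : e⁻¹ = e := inv_eq_of_mul_eq_one_left he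
  have hde1 : d * e ≠ 1 := by
    intro h
    have : d = e⁻¹ := eq_inv_of_mul_eq_one_left h
    rw [hei] at this
    exact hne (by rw [this])
  have z1 : zmodPow 3 (d * e) 1 = d * e := zmodPow_one h3
  have z2 : zmodPow 3 (d * e) 2 = d * e * (d * e) := by
    have : (2 : ZMod 3) = 1 + 1 := by decide
    rw [this, zmodPow_add h3, z1]
  have z0 : zmodPow 3 (d * e) 0 = 1 := zmodPow_zero
  rintro (i | i) h
  · rw [dihedralLift_r] at h
    fin_cases i
    · rfl
    · exfalso
      have h' : zmodPow 3 (d * e) 1 = 1 := h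
      rw [z1] at h'
      exact hde1 h'
    · exfalso
      have h' : zmodPow 3 (d * e) 2 = 1 := h
      rw [z2] at h'
      apply hne
      have h4 : d * e = (d * e)⁻¹ := (inv_eq_of_mul_eq_one_left h').symm
      rw [mul_inv_rev, hdi, hei] at h4
      exact h4
  · rw [dihedralLift_sr] at h
    exfalso
    fin_cases i
    · have h' : d * zmodPow 3 (d * e) 0 = 1 := h
      rw [z0, mul_one] at h'
      apply hne
      rw [h', one_mul, mul_one]
    · have h' : d * zmodPow 3 (d * e) 1 = 1 := h
      rw [z1, ← mul_assoc, hd, one_mul] at h'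
      apply hne
      rw [h', mul_one, one_mul]
    · have h' : d * zmodPow 3 (d * e) 2 = 1 := h
      rw [z2] at h'
      simp only [mul_assoc] at h'
      rw [← mul_assoc d d, hd, one_mul] at h'
      -- e * (d * e) = 1
      apply hne
      have h5 : d * e = e⁻¹ := eq_inv_of_mul_eq_one_right h'
      have h6 : d = 1 := by
        have := congrArg (· * e) h5
        simp only [mul_assoc, he, mul_one] at this
        rw [this, hei, he]
      rw [h6, one_mul, mul_one]

theorem dihedralLift_range (n : ℕ) (x y : G) (hx : x ^ n = 1) (hy : y * y = 1)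
    (hxy : y * x * y = x⁻¹) :
    (dihedralLift n x y hx hy hxy).range = Subgroup.closure {x, y} := by
  apply le_antisymm
  · rintro _ ⟨g, rfl⟩
    have hxm : x ∈ Subgroup.closure ({x, y} : Set G) := Subgroup.subset_closure (by simp)
    have hym : y ∈ Subgroup.closure ({x, y} : Set G) := Subgroup.subset_closure (by simp)
    rcases g with i | i
    · rw [dihedralLift_r]
      exact Subgroup.zpow_mem _ hxm _
    · rw [dihedralLift_sr]
      exact Subgroup.mul_mem _ hym (Subgroup.zpow_mem _ hxm _)
  · rw [Subgroup.closure_le]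
    rintro z hz
    rcases hz with rfl | rfl
    · exact ⟨DihedralGroup.r 1, dihedralLift_r_one n z y hx hy hxy⟩
    · exact ⟨DihedralGroup.sr 0, dihedralLift_sr_zero n x z hx hy hxy⟩

theorem closure_pair_mul_left (d e : G) :
    Subgroup.closure ({d * e, d} : Set G) = Subgroup.closure {d, e} := by
  apply le_antisymm
  · rw [Subgroup.closure_le]
    rintro z hz
    have hdm : d ∈ Subgroup.closure ({d, e} : Set G) := Subgroup.subset_closure (by simp)
    have hem : e ∈ Subgroup.closure ({d, e} : Set G) := Subgroup.subset_closure (by simp)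
    rcases hz with rfl | rfl
    · exact Subgroup.mul_mem _ hdm hem
    · exact hdm
  · rw [Subgroup.closure_le]
    rintro z hz
    have hdm : d ∈ Subgroup.closure ({d * e, d} : Set G) := Subgroup.subset_closure (by simp)
    have hem : d * e ∈ Subgroup.closure ({d * e, d} : Set G) := Subgroup.subset_closure (by simp)
    rcases hz with rfl | rfl
    · exact hdm
    · have : z = d⁻¹ * (d * z) := by simp
      have h2 := Subgroup.mul_mem _ (Subgroup.inv_mem _ hdm) hem
      rw [← this] at h2
      exact h2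

/-- Two non-commuting involutions whose product cubes to one generate a subgroup isomorphic to
the dihedral group of order six. -/
theorem nonempty_dihedral3_equiv_closure {d e : G} (hd : d * d = 1) (he : e * e = 1)
    (h3 : (d * e) ^ 3 = 1) (hne : d * e ≠ e * d) :
    Nonempty (DihedralGroup 3 ≃* Subgroup.closure ({d, e} : Set G)) := by
  have hdi : d⁻¹ = d := inv_eq_of_mul_eq_one_left hd
  have hei : e⁻¹ = e := inv_eq_of_mul_eq_one_left he
  have hxy : d * (d * e) * d = (d * e)⁻¹ := by
    rw [mul_inv_rev, hdi, hei, ← mul_assoc, hd, one_mul]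
  have hinj := dihedral3_lift_injective hd he h3 hne hxy
  have hr := dihedralLift_range 3 (d * e) d h3 hd hxy
  rw [closure_pair_mul_left] at hr
  exact ⟨(MonoidHom.ofInjective hinj).trans (MulEquiv.subgroupCongr hr)⟩

theorem nonempty_dihedral3_equiv_perm : Nonempty (DihedralGroup 3 ≃* Equiv.Perm (Fin 3)) := by
  have hd : (Equiv.swap (0 : Fin 3) 1) * (Equiv.swap (0 : Fin 3) 1) = 1 := by decide
  have he : (Equiv.swap (1 : Fin 3) 2) * (Equiv.swap (1 : Fin 3) 2) = 1 := by decide
  have h3 : ((Equiv.swap (0 : Fin 3) 1) * (Equiv.swap (1 : Fin 3) 2)) ^ 3 = 1 := by decide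
  have hne : (Equiv.swap (0 : Fin 3) 1) * (Equiv.swap (1 : Fin 3) 2) ≠
      (Equiv.swap (1 : Fin 3) 2) * (Equiv.swap (0 : Fin 3) 1) := by decide
  have hdi : (Equiv.swap (0 : Fin 3) 1)⁻¹ = Equiv.swap (0 : Fin 3) 1 := inv_eq_of_mul_eq_one_left hd
  have hei : (Equiv.swap (1 : Fin 3) 2)⁻¹ = Equiv.swap (1 : Fin 3) 2 := inv_eq_of_mul_eq_one_left he
  have hxy : (Equiv.swap (0 : Fin 3) 1) * ((Equiv.swap (0 : Fin 3) 1) * (Equiv.swap (1 : Fin 3) 2)) *
      (Equiv.swap (0 : Fin 3) 1) = ((Equiv.swap (0 : Fin 3) 1) * (Equiv.swap (1 : Fin 3) 2))⁻¹ := by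
    rw [mul_inv_rev, hdi, hei, ← mul_assoc, hd, one_mul]
  have hinj := dihedral3_lift_injective hd he h3 hne hxy
  have hbij : Function.Bijective (dihedralLift 3 _ _ h3 hd hxy) := by
    rw [Fintype.bijective_iff_injective_and_card]
    refine ⟨hinj, ?_⟩
    rw [DihedralGroup.card, Fintype.card_perm, Fintype.card_fin]
    rfl
  exact ⟨MulEquiv.ofBijective _ hbij⟩

end Cfsg.Agent.H10
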