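import Cfsg.Agent.H10.F4Sem

/-!
Kernel-evaluable certificate checkers for a two-level stabiliser chain of packed `F₄`-matrices:
a transversal table `tT` (one entry per coset of the point stabiliser) and a flat table `tE` of all
elements of the point stabiliser.
-/

set_option autoImplicit false

namespace Cfsg.Agent.H10.F4

/-- binary trees of natural numbers, indexed by the bits of the index, lowest bit first -/
inductive Tree where
  | leaf : Nat → Tree
  | node : Tree → Tree → Tree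

/-- look up an index (written with the recursor, which the kernel evaluates fastest) -/
noncomputable def Tree.get (t : Tree) : Nat → Nat :=
  Tree.rec (fun v _ => v)
    (fun _ _ ihl ihr i =>
      bif Nat.beq (Nat.land i (nat_lit 1)) (nat_lit 0) then ihl (Nat.shiftRight i (nat_lit 1))
      else ihr (Nat.shiftRight i (nat_lit 1))) t

/-- all 258 bits -/
def M258 : Nat := nat_lit 463168356949264781694283940034751631413079938662562256157830336031652518559743
/-- all 210 bits -/
def M210 : Nat := nat_lit 1645504557321206042154969182557350504982735865633579863348609023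

/-- entry `i` of a table of 258-bit entries stored 1024 to a leaf -/
noncomputable def Tent (tT : Tree) (i : Nat) : Nat :=
  Nat.land (Nat.shiftRight (tT.get (Nat.shiftRight i (nat_lit 10)))
    (Nat.mul (nat_lit 258) (Nat.land i (nat_lit 1023)))) M258

/-- entry `e` of a table of 210-bit entries stored 1024 to a leaf -/
noncomputable def Eent (tE : Tree) (e : Nat) : Nat :=
  Nat.land (Nat.shiftRight (tE.get (Nat.shiftRight e (nat_lit 10)))
    (Nat.mul (nat_lit 210) (Nat.land e (nat_lit 1023)))) M210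

/-- a bit field of a table entry -/
def fld (x off mask : Nat) : Nat := Nat.land (Nat.shiftRight x off) mask

/-- `f` holds on `lo, …, lo + n - 1` -/
def allFrom (f : Nat → Bool) (lo : Nat) : Nat → Bool
  | 0 => true
  | n + 1 => f (lo + n) && allFrom f lo n

theorem allFrom_sound (f : Nat → Bool) (lo : Nat) :
    ∀ n, allFrom f lo n = true → ∀ i, lo ≤ i → i < lo + n → f i = true := by
  intro n
  induction n with
  | zero => intro _ i h1 h2; omega
  | succ n ih =>
    intro h i h1 h2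
    rw [allFrom, Bool.and_eq_true] at h
    by_cases hi : i = lo + n
    · rw [hi]; exact h.1
    · exact ih h.2 i h1 (by omega)

/-- powers of a packed matrix -/
def powP (a : Nat) : Nat → Nat
  | 0 => ONE
  | n + 1 => mulP a (powP a n)

noncomputable section

/-! ### The flat table `tE` -/

/-- code of entry `e` -/
def Ec (tE : Tree) (e : Nat) : Nat := codeOf (Eent tE e)
/-- depth of entry `e` -/
def Edep (tE : Tree) (e : Nat) : Nat := fld (Eent tE e) (nat_lit 162) (nat_lit 255)
/-- generator of the parent link -/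
def Eps (tE : Tree) (e : Nat) : Nat := fld (Eent tE e) (nat_lit 170) (nat_lit 1)
/-- parent of entry `e` -/
def Epj (tE : Tree) (e : Nat) : Nat := fld (Eent tE e) (nat_lit 171) (nat_lit 8191)
/-- index of `generator s * entry e` -/
def Enx (tE : Tree) (s e : Nat) : Nat :=
  match s with
  | 0 => fld (Eent tE e) (nat_lit 184) (nat_lit 8191)
  | _ => fld (Eent tE e) (nat_lit 197) (nat_lit 8191)

/-- the check for entry `e` of the flat table (generators `s0`, `s1`, size `n`, identity at
`eid`) -/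
def chkE (tE : Tree) (s0 s1 n eid e : Nat) : Bool :=
  Nat.blt (Enx tE 0 e) n && Nat.blt (Enx tE 1 e) n &&
  Nat.beq (mulP s0 (Ec tE e)) (Ec tE (Enx tE 0 e)) &&
  Nat.beq (mulP s1 (Ec tE e)) (Ec tE (Enx tE 1 e)) &&
  (Nat.beq (e + 1) n || Nat.blt (Ec tE e) (Ec tE (e + 1))) &&
  (Nat.beq e eid || (Nat.blt (Epj tE e) n && Nat.blt (Edep tE (Epj tE e)) (Edep tE e) &&
    Nat.beq (Enx tE (Eps tE e) (Epj tE e)) e))

theorem chkE_sound {tE : Tree} {s0 s1 n eid e : Nat} (h : chkE tE s0 s1 n eid e = true) :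
    Enx tE 0 e < n ∧ Enx tE 1 e < n ∧ mulP s0 (Ec tE e) = Ec tE (Enx tE 0 e) ∧
    mulP s1 (Ec tE e) = Ec tE (Enx tE 1 e) ∧ (e + 1 ≠ n → Ec tE e < Ec tE (e + 1)) ∧
    (e ≠ eid → Epj tE e < n ∧ Edep tE (Epj tE e) < Edep tE e ∧
      Enx tE (Eps tE e) (Epj tE e) = e) := by
  simp only [chkE, Bool.and_eq_true, Bool.or_eq_true, Nat.blt_eq, Nat.beq_eq] at h
  obtain ⟨⟨⟨⟨⟨h1, h2⟩, h3⟩, h4⟩, h5⟩, h6⟩ := h
  refine ⟨h1, h2, h3, h4, fun hne => ?_, fun hne => ?_⟩
  · rcases h5 with h5 | h5
    · exact absurd h5 hne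
    · exact h5
  · rcases h6 with h6 | h6
    · exact absurd h6 hne
    · exact ⟨h6.1.1, h6.1.2, h6.2⟩

/-! ### The transversal table `tT` -/

/-- code of entry `i` -/
def Tc (tT : Tree) (i : Nat) : Nat := codeOf (Tent tT i)
/-- depth of entry `i` -/
def Tdep (tT : Tree) (i : Nat) : Nat := fld (Tent tT i) (nat_lit 162) (nat_lit 63)
/-- generator of the parent link -/
def Tps (tT : Tree) (i : Nat) : Nat := fld (Tent tT i) (nat_lit 168) (nat_lit 1)
/-- parent of entry `i` -/
def Tpj (tT : Tree) (i : Nat) : Nat := fld (Tent tT i) (nat_lit 169) (nat_lit 32767)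
/-- coset index of `generator s * entry i` -/
def Tci (tT : Tree) (s i : Nat) : Nat :=
  match s with
  | 0 => fld (Tent tT i) (nat_lit 184) (nat_lit 32767)
  | _ => fld (Tent tT i) (nat_lit 212) (nat_lit 32767)
/-- stabiliser part of `generator s * entry i` -/
def Tce (tT : Tree) (s i : Nat) : Nat :=
  match s with
  | 0 => fld (Tent tT i) (nat_lit 199) (nat_lit 8191)
  | _ => fld (Tent tT i) (nat_lit 227) (nat_lit 8191)
/-- suborbit of entry `i` -/
def Trep (tT : Tree) (i : Nat) : Nat := fld (Tent tT i) (nat_lit 240) (nat_lit 31)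
/-- link of entry `i` to the representative of its suborbit -/
def Tlnk (tT : Tree) (i : Nat) : Nat := fld (Tent tT i) (nat_lit 245) (nat_lit 8191)

/-- right-hand side of the sifting identity -/
def Trhs (tT tE : Tree) (eid s i : Nat) : Nat :=
  bif Nat.beq (Tce tT s i) eid then Tc tT (Tci tT s i)
  else mulP (Tc tT (Tci tT s i)) (Ec tE (Tce tT s i))

/-- the check for entry `i` of the transversal table (generators `s0`, `s1`; sizes `n`, `m`) -/
def chkT (tT tE : Tree) (s0 s1 n m eid i : Nat) : Bool :=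
  Nat.blt (Tci tT 0 i) n && Nat.blt (Tce tT 0 i) m &&
  Nat.beq (mulP s0 (Tc tT i)) (Trhs tT tE eid 0 i) &&
  Nat.blt (Tci tT 1 i) n && Nat.blt (Tce tT 1 i) m &&
  Nat.beq (mulP s1 (Tc tT i)) (Trhs tT tE eid 1 i) &&
  (Nat.beq (i + 1) n || Nat.blt (key (Tc tT i)) (key (Tc tT (i + 1)))) &&
  (Nat.beq i 0 || (Nat.blt (Tpj tT i) n && Nat.blt (Tdep tT (Tpj tT i)) (Tdep tT i) &&
    Nat.beq (Tci tT (Tps tT i) (Tpj tT i)) i && Nat.beq (Tce tT (Tps tT i) (Tpj tT i)) eid))

theorem chkT_sound {tT tE : Tree} {s0 s1 n m eid i : Nat}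
    (h : chkT tT tE s0 s1 n m eid i = true) :
    Tci tT 0 i < n ∧ Tce tT 0 i < m ∧ mulP s0 (Tc tT i) = Trhs tT tE eid 0 i ∧
    Tci tT 1 i < n ∧ Tce tT 1 i < m ∧ mulP s1 (Tc tT i) = Trhs tT tE eid 1 i ∧
    (i + 1 ≠ n → key (Tc tT i) < key (Tc tT (i + 1))) ∧
    (i ≠ 0 → Tpj tT i < n ∧ Tdep tT (Tpj tT i) < Tdep tT i ∧
      Tci tT (Tps tT i) (Tpj tT i) = i ∧ Tce tT (Tps tT i) (Tpj tT i) = eid) := by
  simp only [chkT, Bool.and_eq_true, Bool.or_eq_true, Nat.blt_eq, Nat.beq_eq] at h
  obtain ⟨⟨⟨⟨⟨⟨⟨h1, h2⟩, h3⟩, h4⟩, h5⟩, h6⟩, h7⟩, h8⟩ := h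
  refine ⟨h1, h2, h3, h4, h5, h6, fun hne => ?_, fun hne => ?_⟩
  · rcases h7 with h7 | h7
    · exact absurd h7 hne
    · exact h7
  · rcases h8 with h8 | h8
    · exact absurd h8 hne
    · exact ⟨h8.1.1.1, h8.1.1.2, h8.1.2, h8.2⟩

/-- the suborbit link check for entry `i` (`tR k` is the representative of suborbit `k`) -/
def chkSub (tT tE tR : Tree) (n m i : Nat) : Bool :=
  Nat.beq i 0 || (Nat.blt 0 (Trep tT i) && Nat.blt (Trep tT i) (nat_lit 28) &&
    Nat.blt (Tlnk tT i) m && Nat.blt (tR.get (Trep tT i)) n &&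
    Nat.beq (key (mulP (Ec tE (Tlnk tT i)) (Tc tT (tR.get (Trep tT i))))) (key (Tc tT i)))

theorem chkSub_sound {tT tE tR : Tree} {n m i : Nat} (h : chkSub tT tE tR n m i = true)
    (hi : i ≠ 0) :
    0 < Trep tT i ∧ Trep tT i < 28 ∧ Tlnk tT i < m ∧ tR.get (Trep tT i) < n ∧
    key (mulP (Ec tE (Tlnk tT i)) (Tc tT (tR.get (Trep tT i)))) = key (Tc tT i) := by
  simp only [chkSub, Bool.and_eq_true, Bool.or_eq_true, Nat.blt_eq, Nat.beq_eq] at h
  rcases h with h | h
  · exact absurd h hi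
  · exact ⟨h.1.1.1.1, h.1.1.1.2, h.1.1.2, h.1.2, h.2⟩

/-- the 72 images of the representative of suborbit `k`: entries `128 k + a` of `tL` -/
def chkRep (tT tE tR tL : Tree) (m k a : Nat) : Bool :=
  Nat.blt (tL.get (Nat.add (Nat.mul (nat_lit 128) k) a)) m &&
  (Nat.beq (a + 1) (nat_lit 72) ||
    Nat.blt (key (mulP (Ec tE (tL.get (Nat.add (Nat.mul (nat_lit 128) k) a)))
        (Tc tT (tR.get k))))
      (key (mulP (Ec tE (tL.get (Nat.add (Nat.mul (nat_lit 128) k) (a + 1))))
        (Tc tT (tR.get k)))))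

theorem chkRep_sound {tT tE tR tL : Tree} {m k a : Nat} (h : chkRep tT tE tR tL m k a = true) :
    tL.get (128 * k + a) < m ∧ (a + 1 ≠ 72 →
      key (mulP (Ec tE (tL.get (128 * k + a))) (Tc tT (tR.get k))) <
      key (mulP (Ec tE (tL.get (128 * k + (a + 1)))) (Tc tT (tR.get k)))) := by
  simp only [chkRep, Bool.and_eq_true, Bool.or_eq_true, Nat.blt_eq, Nat.beq_eq] at h
  refine ⟨h.1, fun hne => ?_⟩
  rcases h.2 with h2 | h2
  · exact absurd h2 hne
  · exact h2

/-- an entry of the flat table fixing all the lines through column 0 of the listed transversal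
entries is one of the three listed entries -/
def chkCore (tT tE : Tree) (pts : List Nat) (e0 e1 e2 e : Nat) : Bool :=
  !(pts.all fun i => Nat.beq (key (mulP (Ec tE e) (Tc tT i))) (key (Tc tT i))) ||
    Nat.beq e e0 || Nat.beq e e1 || Nat.beq e e2

theorem chkCore_sound {tT tE : Tree} {pts : List Nat} {e0 e1 e2 e : Nat}
    (h : chkCore tT tE pts e0 e1 e2 e = true)
    (hfix : ∀ i ∈ pts, key (mulP (Ec tE e) (Tc tT i)) = key (Tc tT i)) :
    e = e0 ∨ e = e1 ∨ e = e2 := by
  simp only [chkCore, Bool.or_eq_true, Bool.not_eq_true', Nat.beq_eq] at h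
  rcases h with ((h | h) | h) | h
  · exfalso
    have : (pts.all fun i => Nat.beq (key (mulP (Ec tE e) (Tc tT i))) (key (Tc tT i))) = true := by
      rw [List.all_eq_true]
      intro i hi
      rw [Nat.beq_eq]
      exact hfix i hi
    rw [this] at h
    exact Bool.noConfusion h
  · exact Or.inl h
  · exact Or.inr (Or.inl h)
  · exact Or.inr (Or.inr h)

end

end Cfsg.Agent.H10.F4
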