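import Mathlib

/-!
Bit-packed 9 × 9 matrices over the field with four elements, for kernel evaluation.

A matrix is one natural number: column `j` occupies the 18-bit field at bits `18 j .. 18 j + 17`;
inside a field, bit `r` is the coefficient of `1` and bit `9 + r` the coefficient of `ω` of the
entry in row `r`. `mulP` multiplies two packed matrices with about a hundred big-number operations.
-/

set_option autoImplicit false

namespace Cfsg.Agent.H10.F4

/-- bit 0 of each of the nine 18-bit fields -/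
def mask9 : Nat := nat_lit 22300830269446873167754772512960987242168321

/-- the low nine bits of each of the nine 18-bit fields -/
def lo9 : Nat := nat_lit 11395724267687352188722688754123064480748012031

/-- multiply every entry of a packed matrix by `ω` -/
def wAll (a : Nat) : Nat :=
  Nat.lor (Nat.land (Nat.shiftRight a (nat_lit 9)) lo9)
    (Nat.shiftLeft (Nat.xor (Nat.land a lo9) (Nat.land (Nat.shiftRight a (nat_lit 9)) lo9))
      (nat_lit 9))

/-- one term of the bit-sliced product (specification form) -/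
def term (a b k : Nat) : Nat := ((a >>> (18 * k)) &&& 262143) * ((b >>> k) &&& mask9)

/-- the `F₂`-part of the product: `Σ_k (column k of a) ⊗ (row-bit k of b)` -/
def half (a b : Nat) : Nat :=
  Nat.xor (Nat.xor (Nat.xor (Nat.xor (Nat.xor (Nat.xor (Nat.xor (Nat.xor
    (Nat.mul (Nat.land a (nat_lit 262143)) (Nat.land b mask9))
    (Nat.mul (Nat.land (Nat.shiftRight a (nat_lit 18)) (nat_lit 262143))
      (Nat.land (Nat.shiftRight b (nat_lit 1)) mask9)))
    (Nat.mul (Nat.land (Nat.shiftRight a (nat_lit 36)) (nat_lit 262143))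
      (Nat.land (Nat.shiftRight b (nat_lit 2)) mask9)))
    (Nat.mul (Nat.land (Nat.shiftRight a (nat_lit 54)) (nat_lit 262143))
      (Nat.land (Nat.shiftRight b (nat_lit 3)) mask9)))
    (Nat.mul (Nat.land (Nat.shiftRight a (nat_lit 72)) (nat_lit 262143))
      (Nat.land (Nat.shiftRight b (nat_lit 4)) mask9)))
    (Nat.mul (Nat.land (Nat.shiftRight a (nat_lit 90)) (nat_lit 262143))
      (Nat.land (Nat.shiftRight b (nat_lit 5)) mask9)))
    (Nat.mul (Nat.land (Nat.shiftRight a (nat_lit 108)) (nat_lit 262143))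
      (Nat.land (Nat.shiftRight b (nat_lit 6)) mask9)))
    (Nat.mul (Nat.land (Nat.shiftRight a (nat_lit 126)) (nat_lit 262143))
      (Nat.land (Nat.shiftRight b (nat_lit 7)) mask9)))
    (Nat.mul (Nat.land (Nat.shiftRight a (nat_lit 144)) (nat_lit 262143))
      (Nat.land (Nat.shiftRight b (nat_lit 8)) mask9))

/-- product of packed matrices -/
def mulP (a b : Nat) : Nat := Nat.xor (half a b) (half (wAll a) (Nat.shiftRight b (nat_lit 9)))

theorem half_eq (a b : Nat) : half a b =
    term a b 0 ^^^ term a b 1 ^^^ term a b 2 ^^^ term a b 3 ^^^ term a b 4 ^^^ term a b 5 ^^^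
      term a b 6 ^^^ term a b 7 ^^^ term a b 8 := rfl

theorem wAll_eq (a : Nat) : wAll a =
    ((a >>> 9) &&& lo9) ||| (((a &&& lo9) ^^^ ((a >>> 9) &&& lo9)) <<< 9) := rfl

theorem mulP_eq (a b : Nat) : mulP a b = half a b ^^^ half (wAll a) (b >>> 9) := rfl

/-- `MASK n` has bit `18 j` set for `j < n` -/
def MASK : Nat → Nat
  | 0 => 0
  | n + 1 => 2 ^ 18 * MASK n + 1

theorem mask9_eq : mask9 = MASK 9 := by decide

theorem land_MASK_succ (X n : Nat) :
    X &&& MASK (n + 1) = 2 ^ 18 * ((X >>> 18) &&& MASK n) + X % 2 := by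
  apply Nat.eq_of_testBit_eq
  intro i
  have h1 : (1 : ℕ) < 2 ^ 18 := by norm_num
  have h2 : X % 2 < 2 ^ 18 := by have := Nat.mod_lt X (show 0 < 2 by norm_num); omega
  rw [Nat.testBit_and, MASK, Nat.testBit_two_pow_mul_add _ h1, Nat.testBit_two_pow_mul_add _ h2]
  by_cases hi : i < 18
  · rw [if_pos hi, if_pos hi]
    have e1 : (1 : ℕ) = 2 ^ 1 - 1 := by norm_num
    have e2 : X % 2 = X % 2 ^ 1 := by norm_num
    rw [e2, Nat.testBit_mod_two_pow]
    conv_lhs => rw [e1, Nat.testBit_two_pow_sub_one]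
    rw [Bool.and_comm]
  · rw [if_neg hi, if_neg hi, Nat.testBit_and, Nat.testBit_shiftRight]
    have : 18 + (i - 18) = i := by omega
    rw [this]

theorem testBit_mul_spread (c : Nat) (hc : c < 2 ^ 18) : ∀ (n X j t : Nat), j < n → t < 18 →
    (c * (X &&& MASK n)).testBit (18 * j + t) = (c.testBit t && X.testBit (18 * j)) := by
  intro n
  induction n with
  | zero => intro X j t hj; omega
  | succ n ih =>
    intro X j t hj ht
    rw [land_MASK_succ, Nat.mul_add, ← Nat.mul_assoc, Nat.mul_comm c (2 ^ 18), Nat.mul_assoc]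
    have hlt : c * (X % 2) < 2 ^ 18 := by
      rcases Nat.mod_two_eq_zero_or_one X with h | h <;> rw [h] <;> omega
    rw [Nat.testBit_two_pow_mul_add _ hlt]
    rcases j with _ | j
    · rw [if_pos (by omega)]
      simp only [Nat.mul_zero, Nat.zero_add]
      rw [Nat.testBit_zero]
      rcases Nat.mod_two_eq_zero_or_one X with h | h <;> rw [h] <;> simp
    · rw [if_neg (by omega)]
      have e : 18 * (j + 1) + t - 18 = 18 * j + t := by omega
      rw [e, ih (X >>> 18) j t (by omega) ht, Nat.testBit_shiftRight]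
      have e2 : 18 + 18 * j = 18 * (j + 1) := by omega
      rw [e2]

theorem testBit_term (a b k j t : Nat) (hj : j < 9) (ht : t < 18) :
    (term a b k).testBit (18 * j + t) = (a.testBit (18 * k + t) && b.testBit (18 * j + k)) := by
  unfold term
  rw [mask9_eq]
  have hc : (a >>> (18 * k)) &&& 262143 < 2 ^ 18 := Nat.and_lt_two_pow _ (by norm_num)
  rw [testBit_mul_spread _ hc 9 _ j t hj ht, Nat.testBit_and, Nat.testBit_shiftRight,
    Nat.testBit_shiftRight]
  have e : (262143 : ℕ) = 2 ^ 18 - 1 := by norm_num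
  rw [e, Nat.testBit_two_pow_sub_one, decide_eq_true ht, Bool.and_true, Nat.add_comm k]

theorem testBit_half (a b j t : Nat) (hj : j < 9) (ht : t < 18) :
    (half a b).testBit (18 * j + t) =
      ((a.testBit t && b.testBit (18 * j)) ^^ (a.testBit (18 + t) && b.testBit (18 * j + 1)) ^^
       (a.testBit (36 + t) && b.testBit (18 * j + 2)) ^^
       (a.testBit (54 + t) && b.testBit (18 * j + 3)) ^^
       (a.testBit (72 + t) && b.testBit (18 * j + 4)) ^^
       (a.testBit (90 + t) && b.testBit (18 * j + 5)) ^^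
       (a.testBit (108 + t) && b.testBit (18 * j + 6)) ^^
       (a.testBit (126 + t) && b.testBit (18 * j + 7)) ^^
       (a.testBit (144 + t) && b.testBit (18 * j + 8))) := by
  rw [half_eq]
  simp only [Nat.testBit_xor, testBit_term _ _ _ _ _ hj ht]
  norm_num

theorem lo9_low : ∀ k : Fin 9, ∀ t : Fin 9, lo9.testBit (18 * k.val + t.val) = true := by decide

theorem lo9_high : ∀ k : Fin 9, ∀ t : Fin 9, lo9.testBit (18 * k.val + 9 + t.val) = false := by
  decide

theorem testBit_wAll_lo (a k t : Nat) (hk : k < 9) (ht : t < 9) :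
    (wAll a).testBit (18 * k + t) = a.testBit (18 * k + 9 + t) := by
  have hl := lo9_low ⟨k, hk⟩ ⟨t, ht⟩
  simp only at hl
  rw [wAll_eq, Nat.testBit_or, Nat.testBit_and, Nat.testBit_shiftRight, hl, Bool.and_true,
    Nat.testBit_shiftLeft]
  have e : 9 + (18 * k + t) = 18 * k + 9 + t := by omega
  rw [e]
  rcases k with _ | k
  · simp only [Nat.mul_zero, Nat.zero_add]
    have : ¬ (t ≥ 9) := by omega
    simp [this]
  · have hh := lo9_high ⟨k, by omega⟩ ⟨t, ht⟩
    simp only at hh
    have e2 : 18 * (k + 1) + t - 9 = 18 * k + 9 + t := by omega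
    rw [e2, Nat.testBit_xor, Nat.testBit_and, Nat.testBit_and, hh]
    simp

theorem testBit_wAll_hi (a k t : Nat) (hk : k < 9) (ht : t < 9) :
    (wAll a).testBit (18 * k + 9 + t) = (a.testBit (18 * k + t) ^^ a.testBit (18 * k + 9 + t)) := by
  have hl := lo9_low ⟨k, hk⟩ ⟨t, ht⟩
  have hh := lo9_high ⟨k, hk⟩ ⟨t, ht⟩
  simp only at hl hh
  rw [wAll_eq, Nat.testBit_or, Nat.testBit_and, hh, Bool.and_false, Bool.false_or,
    Nat.testBit_shiftLeft]
  have e2 : 18 * k + 9 + t - 9 = 18 * k + t := by omega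
  have e3 : 9 + (18 * k + t) = 18 * k + 9 + t := by omega
  rw [e2, Nat.testBit_xor, Nat.testBit_and, Nat.testBit_and, Nat.testBit_shiftRight, hl, e3]
  have : (18 * k + 9 + t ≥ 9) := by omega
  simp [this]

end Cfsg.Agent.H10.F4
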