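import Cfsg.Agent.H10.F4Code

/-!
Semantics of the packed matrices of `F4Code` over an arbitrary field with four elements.
-/

set_option autoImplicit false

namespace Cfsg.Agent.H10.F4

/-- nine-fold exclusive or -/
def xor9 (f : Nat → Bool) : Bool := f 0 ^^ f 1 ^^ f 2 ^^ f 3 ^^ f 4 ^^ f 5 ^^ f 6 ^^ f 7 ^^ f 8

theorem testBit_half' (a b j t : Nat) (hj : j < 9) (ht : t < 18) :
    (half a b).testBit (18 * j + t) =
      xor9 (fun k => a.testBit (18 * k + t) && b.testBit (18 * j + k)) := by
  rw [half_eq]
  simp only [Nat.testBit_xor, testBit_term _ _ _ _ _ hj ht, xor9]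

theorem testBit_mulP_lo (a b j r : Nat) (hj : j < 9) (hr : r < 9) :
    (mulP a b).testBit (18 * j + r) =
      (xor9 (fun k => a.testBit (18 * k + r) && b.testBit (18 * j + k)) ^^
       xor9 (fun k => a.testBit (18 * k + 9 + r) && b.testBit (18 * j + 9 + k))) := by
  rw [mulP_eq, Nat.testBit_xor, testBit_half' a b j r hj (by omega),
    testBit_half' (wAll a) (b >>> 9) j r hj (by omega)]
  simp only [xor9, Nat.testBit_shiftRight]
  rw [testBit_wAll_lo a 0 r (by omega) hr, testBit_wAll_lo a 1 r (by omega) hr,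
    testBit_wAll_lo a 2 r (by omega) hr, testBit_wAll_lo a 3 r (by omega) hr,
    testBit_wAll_lo a 4 r (by omega) hr, testBit_wAll_lo a 5 r (by omega) hr,
    testBit_wAll_lo a 6 r (by omega) hr, testBit_wAll_lo a 7 r (by omega) hr,
    testBit_wAll_lo a 8 r (by omega) hr]
  have e : ∀ k, 9 + (18 * j + k) = 18 * j + 9 + k := fun k => by omega
  simp only [e]

theorem testBit_mulP_hi (a b j r : Nat) (hj : j < 9) (hr : r < 9) :
    (mulP a b).testBit (18 * j + 9 + r) =
      (xor9 (fun k => a.testBit (18 * k + 9 + r) && b.testBit (18 * j + k)) ^^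
       xor9 (fun k => (a.testBit (18 * k + r) ^^ a.testBit (18 * k + 9 + r)) &&
         b.testBit (18 * j + 9 + k))) := by
  have e0 : 18 * j + 9 + r = 18 * j + (9 + r) := by omega
  rw [e0, mulP_eq, Nat.testBit_xor, testBit_half' a b j (9 + r) hj (by omega),
    testBit_half' (wAll a) (b >>> 9) j (9 + r) hj (by omega)]
  simp only [xor9, Nat.testBit_shiftRight]
  have e1 : ∀ k, 18 * k + (9 + r) = 18 * k + 9 + r := fun k => by omega
  simp only [e1]
  rw [testBit_wAll_hi a 0 r (by omega) hr, testBit_wAll_hi a 1 r (by omega) hr,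
    testBit_wAll_hi a 2 r (by omega) hr, testBit_wAll_hi a 3 r (by omega) hr,
    testBit_wAll_hi a 4 r (by omega) hr, testBit_wAll_hi a 5 r (by omega) hr,
    testBit_wAll_hi a 6 r (by omega) hr, testBit_wAll_hi a 7 r (by omega) hr,
    testBit_wAll_hi a 8 r (by omega) hr]
  have e : ∀ k, 9 + (18 * j + k) = 18 * j + 9 + k := fun k => by omega
  simp only [e]

section sem

variable {F : Type*} [Field F]

/-- a bit as a field element -/
def bF (b : Bool) : F := if b then 1 else 0

/-- the field element `lo + hi * ω` -/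
def val (ω : F) (lo hi : Bool) : F := bF lo + bF hi * ω

/-- the matrix of a packed code -/
def msem (ω : F) (P : Nat) : Matrix (Fin 9) (Fin 9) F :=
  Matrix.of fun r j =>
    val ω (P.testBit (18 * j.val + r.val)) (P.testBit (18 * j.val + 9 + r.val))

theorem msem_apply (ω : F) (P : Nat) (r j : Fin 9) :
    msem ω P r j = val ω (P.testBit (18 * j.val + r.val)) (P.testBit (18 * j.val + 9 + r.val)) :=
  rfl

theorem bF_and (x y : Bool) : (bF (x && y) : F) = bF x * bF y := by
  cases x <;> cases y <;> simp [bF]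

theorem bF_xor (h2 : (2 : F) = 0) (x y : Bool) : (bF (x ^^ y) : F) = bF x + bF y := by
  have h11 : (1 : F) + 1 = 0 := by rw [one_add_one_eq_two, h2]
  cases x <;> cases y <;> simp [bF, h11]

theorem bF_xor9 (h2 : (2 : F) = 0) (f : Nat → Bool) :
    (bF (xor9 f) : F) = ∑ k : Fin 9, bF (f k.val) := by
  rw [Fin.sum_univ_castSucc, Fin.sum_univ_eight]
  simp only [xor9, bF_xor h2]
  rfl

theorem val_mul_val (ω : F) (h2 : (2 : F) = 0) (hω : ω ^ 2 + ω + 1 = 0) (a0 a1 b0 b1 : Bool) :
    val ω a0 a1 * val ω b0 b1 =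
      (bF (a0 && b0) + bF (a1 && b1)) + (bF (a1 && b0) + bF ((a0 ^^ a1) && b1)) * ω := by
  simp only [val, bF_and, bF_xor h2]
  linear_combination ((bF a1 : F) * bF b1) * hω - ((bF a1 : F) * bF b1 * (ω + 1)) * h2

theorem msem_mul (ω : F) (h2 : (2 : F) = 0) (hω : ω ^ 2 + ω + 1 = 0) (a b : Nat) :
    msem ω (mulP a b) = msem ω a * msem ω b := by
  ext r j
  rw [Matrix.mul_apply, msem_apply, testBit_mulP_lo a b j r j.isLt r.isLt,
    testBit_mulP_hi a b j r j.isLt r.isLt]
  simp only [msem_apply, val_mul_val ω h2 hω]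
  rw [val, bF_xor h2, bF_xor h2, bF_xor9 h2, bF_xor9 h2, bF_xor9 h2, bF_xor9 h2]
  simp only [Finset.sum_add_distrib, Finset.sum_mul, add_mul]

end sem

/-! ### The identity, scalars, columns -/

/-- packed identity matrix -/
def ONE : Nat := nat_lit 5709001659880350221312270831439550521480314881

/-- all 162 bits -/
def M162 : Nat := nat_lit 5846006549323611672814739330865132078623730171903

/-- the code part of a table entry -/
def codeOf (x : Nat) : Nat := Nat.land x M162

/-- column 0 of a packed matrix (a packed vector) -/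
def col0 (x : Nat) : Nat := Nat.land x (nat_lit 262143)

/-- minimum, by `Nat.ble` -/
def min2 (a b : Nat) : Nat := bif Nat.ble a b then a else b

/-- canonical code of the line through column 0 -/
def key (x : Nat) : Nat := min2 (col0 x) (min2 (col0 (wAll x)) (col0 (wAll (wAll x))))

theorem M162_eq : M162 = 2 ^ 162 - 1 := by decide

theorem codeOf_eq (x : Nat) : codeOf x = x % 2 ^ 162 := by
  show x &&& M162 = _
  rw [M162_eq, Nat.and_two_pow_sub_one_eq_mod]

theorem codeOf_lt (x : Nat) : codeOf x < 2 ^ 162 := by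
  rw [codeOf_eq]; exact Nat.mod_lt _ (by norm_num)

theorem col0_eq (x : Nat) : col0 x = x % 2 ^ 18 := by
  show x &&& 262143 = _
  have e : (262143 : ℕ) = 2 ^ 18 - 1 := by norm_num
  rw [e, Nat.and_two_pow_sub_one_eq_mod]

theorem min2_eq (a b : Nat) : min2 a b = min a b := by
  unfold min2
  by_cases h : a ≤ b
  · rw [Nat.ble_eq_true_of_le h]; simp [h]
  · have : Nat.ble a b = false := by
      cases hb : Nat.ble a b
      · rfl
      · exact absurd (Nat.le_of_ble_eq_true hb) h
    rw [this]; simp; omega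

theorem ONE_bits : ∀ r j : Fin 9, (ONE.testBit (18 * j.val + r.val) = decide (r = j)) ∧
    ONE.testBit (18 * j.val + 9 + r.val) = false := by decide

section sem2

variable {F : Type*} [Field F]

theorem msem_one (ω : F) : msem ω ONE = 1 := by
  ext r j
  rw [msem_apply, (ONE_bits r j).1, (ONE_bits r j).2]
  by_cases h : r = j
  · subst h; simp [val, bF]
  · simp [val, bF, h]

theorem msem_codeOf (ω : F) (x : Nat) : msem ω (codeOf x) = msem ω x := by
  ext r j
  have h1 : 18 * j.val + r.val < 162 := by have := j.isLt; have := r.isLt; omega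
  have h2 : 18 * j.val + 9 + r.val < 162 := by have := j.isLt; have := r.isLt; omega
  rw [msem_apply, msem_apply, codeOf_eq, Nat.testBit_mod_two_pow, Nat.testBit_mod_two_pow]
  simp [h1, h2]

theorem msem_wAll (ω : F) (h2 : (2 : F) = 0) (hω : ω ^ 2 + ω + 1 = 0) (a : Nat) :
    msem ω (wAll a) = ω • msem ω a := by
  ext r j
  rw [Matrix.smul_apply, msem_apply, msem_apply, testBit_wAll_lo a j r j.isLt r.isLt,
    testBit_wAll_hi a j r j.isLt r.isLt]
  simp only [val, bF_xor h2, smul_eq_mul]
  linear_combination (-(bF (a.testBit (18 * j.val + 9 + r.val)) : F)) * hω +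
    ((bF (a.testBit (18 * j.val + 9 + r.val)) : F) * (ω + 1)) * h2

/-- the basic facts about a field with four elements and a primitive cube root of unity -/
structure IsF4 (F : Type*) [Field F] (ω : F) : Prop where
  two : (2 : F) = 0
  root : ω ^ 2 + ω + 1 = 0
  cases : ∀ c : F, c = 0 ∨ c = 1 ∨ c = ω ∨ c = ω ^ 2

theorem isF4_of_card [Fintype F] (hF : Fintype.card F = 4) (ω : F) (hω : ω ^ 2 + ω + 1 = 0) :
    IsF4 F ω := by
  classical
  have h4 : (4 : F) = 0 := by
    have := card_nsmul_eq_zero (G := F) (x := (1 : F))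
    rw [hF] at this
    simpa using this
  have h2 : (2 : F) = 0 := by
    have : (2 : F) * 2 = 0 := by rw [← h4]; norm_num
    exact mul_self_eq_zero.mp this
  have h11 : (1 : F) + 1 = 0 := by rw [one_add_one_eq_two, h2]
  have hω0 : ω ≠ 0 := by
    intro h; rw [h] at hω; simp at hω
  have hω1 : ω ≠ 1 := by
    intro h; rw [h] at hω
    have : (1 : F) = 0 := by linear_combination hω - h11
    exact one_ne_zero this
  have hsq : ω ^ 2 = ω + 1 := by linear_combination hω - (ω + 1) * h2
  refine ⟨h2, hω, ?_⟩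
  have hcard : ({0, 1, ω, ω ^ 2} : Finset F).card = 4 := by
    rw [Finset.card_insert_of_notMem, Finset.card_insert_of_notMem,
      Finset.card_insert_of_notMem, Finset.card_singleton]
    · simp only [Finset.mem_singleton]
      intro h; rw [hsq] at h
      exact one_ne_zero (by linear_combination (-1 : F) * h : (1 : F) = 0)
    · simp only [Finset.mem_insert, Finset.mem_singleton, not_or]
      refine ⟨fun h => hω1 h.symm, ?_⟩
      intro h; rw [hsq] at h
      exact hω0 (by linear_combination (-1 : F) * h)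
    · simp only [Finset.mem_insert, Finset.mem_singleton, not_or]
      refine ⟨one_ne_zero.symm, fun h => hω0 h.symm, ?_⟩
      intro h; rw [hsq] at h
      exact hω1 (by linear_combination (-1 : F) * h - h2)
  have huniv : ({0, 1, ω, ω ^ 2} : Finset F) = Finset.univ :=
    Finset.eq_univ_of_card _ (by rw [hcard, hF])
  intro c
  have hc : c ∈ ({0, 1, ω, ω ^ 2} : Finset F) := by rw [huniv]; exact Finset.mem_univ c
  simpa using hc

end sem2

end Cfsg.Agent.H10.F4
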