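import Cfsg.Agent.H10.F4Check

/-!
More semantics of packed `F₄`-matrices: injectivity, lines (`key`), and elements of `GL`.
-/

set_option autoImplicit false

namespace Cfsg.Agent.H10.F4

section

variable {F : Type*} [Field F] {ω : F}

namespace IsF4

theorem one_add_one (h : IsF4 F ω) : (1 : F) + 1 = 0 := by rw [one_add_one_eq_two, h.two]

theorem omega_ne_zero (h : IsF4 F ω) : ω ≠ 0 := by
  intro e
  have := h.root
  rw [e] at this
  simp at this

theorem omega_ne_one (h : IsF4 F ω) : ω ≠ 1 := by
  intro e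
  have h3 := h.root
  rw [e] at h3
  have : (1 : F) = 0 := by linear_combination h3 - h.one_add_one
  exact one_ne_zero this

theorem sq (h : IsF4 F ω) : ω ^ 2 = ω + 1 := by linear_combination h.root - (ω + 1) * h.two

theorem cube (h : IsF4 F ω) : ω ^ 3 = 1 := by linear_combination (ω - 1) * h.root

theorem val_inj (h : IsF4 F ω) (a b a' b' : Bool) (e : val ω a b = val ω a' b') :
    a = a' ∧ b = b' := by
  have h0 := h.omega_ne_zero
  have h1 := h.omega_ne_one
  have h11 := h.one_add_one
  have d1 : (1 : F) + ω ≠ 0 := fun e => h1 (by linear_combination e - h11)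
  cases a <;> cases b <;> cases a' <;> cases b' <;> simp only [val, bF] at e <;>
    norm_num at e <;> first
      | exact ⟨rfl, rfl⟩
      | exact absurd e h0
      | exact absurd e.symm h0
      | exact absurd e h1
      | exact absurd e.symm h1
      | exact absurd e d1
      | exact absurd e.symm d1

end IsF4

theorem msem_inj (h : IsF4 F ω) {P Q : Nat} (e : msem ω P = msem ω Q) : codeOf P = codeOf Q := by
  rw [codeOf_eq, codeOf_eq]
  apply Nat.eq_of_testBit_eq
  intro i
  rw [Nat.testBit_mod_two_pow, Nat.testBit_mod_two_pow]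
  by_cases hi : i < 162
  · simp only [hi, decide_true, Bool.true_and]
    by_cases ht : i % 18 < 9
    · have e1 := congrFun (congrFun e ⟨i % 18, ht⟩) ⟨i / 18, by omega⟩
      rw [msem_apply, msem_apply] at e1
      have e2 := (h.val_inj _ _ _ _ e1).1
      have : 18 * (i / 18) + i % 18 = i := by omega
      simpa [this] using e2
    · have e1 := congrFun (congrFun e ⟨i % 18 - 9, by omega⟩) ⟨i / 18, by omega⟩
      rw [msem_apply, msem_apply] at e1
      have e2 := (h.val_inj _ _ _ _ e1).2
      have : 18 * (i / 18) + 9 + (i % 18 - 9) = i := by omega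
      simpa [this] using e2
  · simp [hi]

/-- column 0 of the matrix of a code -/
def colv (ω : F) (P : Nat) : Fin 9 → F := fun r => msem ω P r 0

theorem colv_wAll (h : IsF4 F ω) (P : Nat) : colv ω (wAll P) = ω • colv ω P := by
  funext r
  show msem ω (wAll P) r 0 = ω • msem ω P r 0
  rw [msem_wAll ω h.two h.root]
  rfl

theorem colv_iter (h : IsF4 F ω) (P : Nat) (a : ℕ) : colv ω (wAll^[a] P) = ω ^ a • colv ω P := by
  induction a with
  | zero => simp
  | succ a ih => rw [Function.iterate_succ_apply', colv_wAll h, ih, smul_smul, pow_succ']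

theorem colv_eq_of_col0 {P Q : Nat} (e : col0 P = col0 Q) : colv ω P = colv ω Q := by
  funext r
  show msem ω P r 0 = msem ω Q r 0
  rw [msem_apply, msem_apply]
  rw [col0_eq, col0_eq] at e
  have h1 : ∀ k, k < 18 → P.testBit k = Q.testBit k := by
    intro k hk
    have := congrArg (fun x => x.testBit k) e
    simp only [Nat.testBit_mod_two_pow, hk, decide_true, Bool.true_and] at this
    exact this
  have hr := r.isLt
  rw [h1 _ (by simp; omega), h1 _ (by simp; omega)]

theorem col0_eq_of_colv (h : IsF4 F ω) {P Q : Nat} (e : colv ω P = colv ω Q) :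
    col0 P = col0 Q := by
  rw [col0_eq, col0_eq]
  apply Nat.eq_of_testBit_eq
  intro i
  rw [Nat.testBit_mod_two_pow, Nat.testBit_mod_two_pow]
  by_cases hi : i < 18
  · simp only [hi, decide_true, Bool.true_and]
    by_cases ht : i < 9
    · have e1 := congrFun e ⟨i, ht⟩
      simp only [colv, msem_apply] at e1
      have e2 := (h.val_inj _ _ _ _ e1).1
      simpa using e2
    · have e1 := congrFun e ⟨i - 9, by omega⟩
      simp only [colv, msem_apply] at e1
      have e2 := (h.val_inj _ _ _ _ e1).2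
      have : 9 + (i - 9) = i := by omega
      simpa [this] using e2
  · simp [hi]

theorem key_mem (P : Nat) : ∃ a, a < 3 ∧ key P = col0 (wAll^[a] P) := by
  unfold key
  simp only [min2_eq]
  rcases le_total (col0 P) (min (col0 (wAll P)) (col0 (wAll (wAll P)))) with h | h
  · exact ⟨0, by norm_num, by rw [min_eq_left h]; rfl⟩
  · rw [min_eq_right h]
    rcases le_total (col0 (wAll P)) (col0 (wAll (wAll P))) with h' | h'
    · exact ⟨1, by norm_num, by rw [min_eq_left h']; rfl⟩
    · exact ⟨2, by norm_num, by rw [min_eq_right h']; rfl⟩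

/-- equal keys mean proportional columns -/
theorem colv_of_key_eq (h : IsF4 F ω) {P Q : Nat} (e : key P = key Q) :
    ∃ c : F, c ≠ 0 ∧ colv ω P = c • colv ω Q := by
  obtain ⟨a, -, ha⟩ := key_mem P
  obtain ⟨b, -, hb⟩ := key_mem Q
  have e1 : colv ω (wAll^[a] P) = colv ω (wAll^[b] Q) := colv_eq_of_col0 (by rw [← ha, ← hb, e])
  rw [colv_iter h, colv_iter h] at e1
  have h0 := h.omega_ne_zero
  refine ⟨(ω ^ a)⁻¹ * ω ^ b, mul_ne_zero (inv_ne_zero (pow_ne_zero _ h0)) (pow_ne_zero _ h0), ?_⟩
  rw [← smul_smul, ← e1, smul_smul, inv_mul_cancel₀ (pow_ne_zero _ h0), one_smul]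

/-- proportional columns have equal keys -/
theorem key_eq_of_colv (h : IsF4 F ω) {P Q : Nat} (c : F) (hc : c ≠ 0)
    (e : colv ω P = c • colv ω Q) : key P = key Q := by
  have h3 := h.cube
  have key3 : ∀ a : ℕ, colv ω P = ω ^ a • colv ω Q →
      col0 P = col0 (wAll^[a] Q) ∧ col0 (wAll P) = col0 (wAll^[a + 1] Q) ∧
      col0 (wAll (wAll P)) = col0 (wAll^[a + 2] Q) := by
    intro a ea
    refine ⟨col0_eq_of_colv h ?_, col0_eq_of_colv h ?_, col0_eq_of_colv h ?_⟩
    · rw [colv_iter h, ea]
    · rw [colv_wAll h, colv_iter h, ea, smul_smul, pow_succ']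
    · rw [colv_wAll h, colv_wAll h, colv_iter h, ea, smul_smul, smul_smul, pow_succ, pow_succ]
      congr 1
      ring
  have e3 : col0 (wAll^[3] Q) = col0 Q := by
    apply col0_eq_of_colv h
    rw [colv_iter h, h3, one_smul]
  have e4 : col0 (wAll^[4] Q) = col0 (wAll Q) := by
    apply col0_eq_of_colv h
    rw [colv_iter h, colv_wAll h, pow_succ, h3, one_mul]
  have i1 : wAll^[1] Q = wAll Q := rfl
  have i2 : wAll^[2] Q = wAll (wAll Q) := rfl
  have i0 : wAll^[0] Q = Q := rfl
  unfold key
  simp only [min2_eq]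
  rcases h.cases c with hc0 | hc1 | hcw | hcw2
  · exact absurd hc0 hc
  · obtain ⟨k0, k1, k2⟩ := key3 0 (by rw [e, hc1, pow_zero])
    rw [k0, k1, k2, i0]
    simp only [Nat.zero_add, i1, i2]
  · obtain ⟨k0, k1, k2⟩ := key3 1 (by rw [e, hcw, pow_one])
    rw [k0, k1, k2]
    simp only [Nat.reduceAdd, i1, i2, e3]
    omega
  · obtain ⟨k0, k1, k2⟩ := key3 2 (by rw [e, hcw2])
    rw [k0, k1, k2]
    simp only [Nat.reduceAdd, i2, e3, e4]
    omega

theorem msem_powP (h : IsF4 F ω) (a : Nat) (n : ℕ) : msem ω (powP a n) = msem ω a ^ n := by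
  induction n with
  | zero => rw [powP, msem_one, pow_zero]
  | succ n ih => rw [powP, msem_mul ω h.two h.root, ih, pow_succ']

end

end Cfsg.Agent.H10.F4
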