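import Mathlib
import Cfsg.Prelude.Def_Sporadic_a

set_option autoImplicit false

namespace Cfsg.Agent.H10

open Cfsg

/-- The standard dot product of binary words. -/
def dot₂ {α : Type*} [Fintype α] (v w : α → ZMod 2) : ZMod 2 := ∑ i, v i * w i

theorem dot₂_add_left {α : Type*} [Fintype α] (u v w : α → ZMod 2) :
    dot₂ (u + v) w = dot₂ u w + dot₂ v w := by
  simp [dot₂, add_mul, Finset.sum_add_distrib]

theorem dot₂_add_right {α : Type*} [Fintype α] (u v w : α → ZMod 2) :
    dot₂ u (v + w) = dot₂ u v + dot₂ u w := by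
  simp [dot₂, mul_add, Finset.sum_add_distrib]

theorem dot₂_smul_left {α : Type*} [Fintype α] (c : ZMod 2) (v w : α → ZMod 2) :
    dot₂ (c • v) w = c * dot₂ v w := by
  simp [dot₂, Finset.mul_sum, mul_assoc]

theorem dot₂_smul_right {α : Type*} [Fintype α] (c : ZMod 2) (v w : α → ZMod 2) :
    dot₂ v (c • w) = c * dot₂ v w := by
  simp [dot₂, Finset.mul_sum, mul_left_comm]

theorem dot₂_zero_left {α : Type*} [Fintype α] (w : α → ZMod 2) : dot₂ 0 w = 0 := by
  simp [dot₂]

theorem dot₂_zero_right {α : Type*} [Fintype α] (w : α → ZMod 2) : dot₂ w 0 = 0 := by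
  simp [dot₂]

theorem zmod2_mul_eq_ite (a b : ZMod 2) : a * b = if a ≠ 0 ∧ b ≠ 0 then 1 else 0 := by
  revert a b; decide

theorem dot₂_eq_card {α : Type*} [Fintype α] [DecidableEq α] (v w : α → ZMod 2) :
    dot₂ v w = ((support₂ v ∩ support₂ w).card : ZMod 2) := by
  unfold dot₂ support₂
  rw [Finset.card_eq_sum_ones, Nat.cast_sum]
  rw [← Finset.filter_and, Finset.sum_filter]
  apply Finset.sum_congr rfl
  intro i _
  rw [zmod2_mul_eq_ite]
  simp

set_option maxRecDepth 100000 in
theorem qr_dot_qr : ∀ s t : ZMod 23, dot₂ (qrWord s) (qrWord t) = 0 := by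
  decide +kernel

set_option maxRecDepth 100000 in
theorem qr_dot_one : ∀ s : ZMod 23, dot₂ (qrWord s) 1 = 0 := by
  decide +kernel

set_option maxRecDepth 100000 in
theorem qr_card : ∀ s : ZMod 23, (support₂ (qrWord s)).card = 12 := by
  decide +kernel

theorem one_dot_one : dot₂ (1 : GolayPt → ZMod 2) 1 = 0 := by
  decide +kernel

theorem dot₂_comm {α : Type*} [Fintype α] (v w : α → ZMod 2) : dot₂ v w = dot₂ w v := by
  simp [dot₂, mul_comm]

/-- The length-24 code is self-orthogonal. -/
theorem golay_dot_eq_zero {v w : GolayPt → ZMod 2} (hv : v ∈ golayCode) (hw : w ∈ golayCode) :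
    dot₂ v w = 0 := by
  unfold golayCode at hv hw
  induction hv using Submodule.span_induction with
  | mem x hx =>
    induction hw using Submodule.span_induction with
    | mem y hy =>
      rcases hx with ⟨s, rfl⟩ | hx
      · rcases hy with ⟨t, rfl⟩ | hy
        · exact qr_dot_qr s t
        · rw [Set.mem_singleton_iff] at hy; subst hy; exact qr_dot_one s
      · rw [Set.mem_singleton_iff] at hx; subst hx
        rcases hy with ⟨t, rfl⟩ | hy
        · rw [dot₂_comm]; exact qr_dot_one t
        · rw [Set.mem_singleton_iff] at hy; subst hy; exact one_dot_one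
    | zero => exact dot₂_zero_right _
    | add y z _ _ ihy ihz => rw [dot₂_add_right, ihy, ihz, add_zero]
    | smul c y _ ih => rw [dot₂_smul_right, ih, mul_zero]
  | zero => exact dot₂_zero_left _
  | add y z _ _ ihy ihz => rw [dot₂_add_left, ihy, ihz, add_zero]
  | smul c y _ ih => rw [dot₂_smul_left, ih, mul_zero]

/-- Any two words of the length-24 code meet evenly. -/
theorem golay_inter_even {v w : GolayPt → ZMod 2} (hv : v ∈ golayCode) (hw : w ∈ golayCode) :
    2 ∣ (support₂ v ∩ support₂ w).card := by
  have h := golay_dot_eq_zero hv hw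
  rw [dot₂_eq_card] at h
  exact (ZMod.natCast_eq_zero_iff _ 2).1 h

theorem support₂_add {α : Type*} [Fintype α] [DecidableEq α] (v w : α → ZMod 2) :
    support₂ (v + w) = symmDiff (support₂ v) (support₂ w) := by
  ext i
  simp only [support₂, Finset.mem_filter, Finset.mem_univ, true_and, Finset.mem_symmDiff,
    Pi.add_apply]
  generalize v i = a
  generalize w i = b
  revert a b
  decide

theorem card_symmDiff_add {α : Type*} [DecidableEq α] (s t : Finset α) :
    (symmDiff s t).card + 2 * (s ∩ t).card = s.card + t.card := by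
  have h1 : (symmDiff s t).card = (s \ t).card + (t \ s).card := by
    rw [symmDiff_def, Finset.sup_eq_union, Finset.card_union_of_disjoint]
    rw [Finset.disjoint_left]
    intro a ha hb
    rw [Finset.mem_sdiff] at ha hb
    exact ha.2 hb.1
  have h2 := Finset.card_sdiff_add_card_inter s t
  have h3 := Finset.card_sdiff_add_card_inter t s
  rw [Finset.inter_comm t s] at h3
  omega

theorem support₂_one_card : (support₂ (1 : GolayPt → ZMod 2)).card = 24 := by
  decide +kernel

/-- The length-24 code is doubly even. -/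
theorem golay_card_dvd {v : GolayPt → ZMod 2} (hv : v ∈ golayCode) :
    4 ∣ (support₂ v).card := by
  have hv' := hv
  unfold golayCode at hv'
  induction hv' using Submodule.span_induction with
  | mem x hx =>
    rcases hx with ⟨s, rfl⟩ | hx
    · rw [qr_card s]; decide
    · rw [Set.mem_singleton_iff] at hx; subst hx; rw [support₂_one_card]; decide
  | zero => simp [support₂]
  | add y z hy hz ihy ihz =>
    have hy' : y ∈ golayCode := hy
    have hz' : z ∈ golayCode := hz
    have h1 := card_symmDiff_add (support₂ y) (support₂ z)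
    have h2 := golay_inter_even hy' hz'
    have h3 := ihy hy'
    have h4 := ihz hz'
    rw [support₂_add]
    omega
  | smul c y hy ih =>
    have hy' : y ∈ golayCode := hy
    have hc : c = 0 ∨ c = 1 := (by decide : ∀ c : ZMod 2, c = 0 ∨ c = 1) c
    rcases hc with rfl | rfl
    · simp [support₂]
    · rw [one_smul]; exact ih hy'

theorem one_mem_golayCode : (1 : GolayPt → ZMod 2) ∈ golayCode :=
  Submodule.subset_span (Or.inr rfl)

/-- Supports of code words are closed under symmetric difference. -/
theorem supports_symmDiff {c d : Finset GolayPt}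
    (hc : c ∈ supports (golayCode : Set (GolayPt → ZMod 2)))
    (hd : d ∈ supports (golayCode : Set (GolayPt → ZMod 2))) :
    symmDiff c d ∈ supports (golayCode : Set (GolayPt → ZMod 2)) := by
  obtain ⟨v, hv, rfl⟩ := hc
  obtain ⟨w, hw, rfl⟩ := hd
  exact ⟨v + w, golayCode.add_mem hv hw, support₂_add v w⟩

theorem supports_inter_even {c d : Finset GolayPt}
    (hc : c ∈ supports (golayCode : Set (GolayPt → ZMod 2)))
    (hd : d ∈ supports (golayCode : Set (GolayPt → ZMod 2))) :
    2 ∣ (c ∩ d).card := by
  obtain ⟨v, hv, rfl⟩ := hc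
  obtain ⟨w, hw, rfl⟩ := hd
  exact golay_inter_even hv hw

theorem supports_card_dvd {c : Finset GolayPt}
    (hc : c ∈ supports (golayCode : Set (GolayPt → ZMod 2))) : 4 ∣ c.card := by
  obtain ⟨v, hv, rfl⟩ := hc
  exact golay_card_dvd hv

end Cfsg.Agent.H10
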