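import Cfsg.Agent.H10.J3.GenData
import Cfsg.Agent.H10.J3.TT

/-!
The generating matrices of the `J₃` definitions as packed codes.
-/

set_option autoImplicit false

namespace Cfsg.Agent.H10.J3

open Cfsg.Agent.H10.F4 Cfsg.Spor
open scoped MatrixGroups

/-- entry of a code: `0`, `1`, `2` (for `ω`) or `3` (for `ω²`) -/
def ent (P : Nat) (w z : F9) : Nat :=
  (if P.testBit (18 * (e9 z).val + (e9 w).val) then 1 else 0) +
    (if P.testBit (18 * (e9 z).val + 9 + (e9 w).val) then 2 else 0)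

/-- entries of `A_Z` -/
def eA (Z w z : F9) : Nat := if w = z then 1 + (Z.1 * z.1 + Z.2 * z.2).val else 0
/-- entries of `E_Z` -/
def eE (Z w z : F9) : Nat := if w = z then 1 + ((Z.1 - z.1) ^ 2 + (Z.2 - z.2) ^ 2).val else 0
/-- entries of `D_Z` -/
def eD (Z w z : F9) : Nat :=
  if w = z + Z then
    (if z = 0 then 1 else if F9.div Z z = F9.I - F9.one then 2
      else if F9.div Z z = -F9.I - F9.one then 3 else 1)
  else 0
/-- entries of `B_Z` -/
def eB (Z w z : F9) : Nat := if w = F9.mul Z z then 1 else 0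
/-- entries of `C_Z` -/
def eC (Z w z : F9) : Nat :=
  if z = 0 then (if w = 0 then 1 else 0)
  else if w = -F9.div Z z ∨ w = F9.mul F9.I (F9.div Z z) ∨ w = -F9.mul F9.I (F9.div Z z) then 1
  else 0

theorem bitsA : ∀ Z w z : F9, ent (cA Z) w z = eA Z w z := by decide +kernel
theorem bitsE : ∀ Z w z : F9, ent (cE Z) w z = eE Z w z := by decide +kernel
theorem bitsD : ∀ Z w z : F9, ent (cD Z) w z = eD Z w z := by decide +kernel
theorem bitsB : ∀ Z w z : F9, ent (cB Z) w z = eB Z w z := by decide +kernel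
theorem bitsC : ∀ Z w z : F9, ent (cC Z) w z = eC Z w z := by decide +kernel

section

variable {F : Type*} [Field F] {ω : F}

/-- the field element of an entry code -/
def dec (ω : F) : Nat → F
  | 0 => 0
  | 1 => 1
  | 2 => ω
  | _ => ω ^ 2

theorem msem9_apply_dec (h : IsF4 F ω) (P : Nat) (w z : F9) :
    msem9 ω P w z = dec ω (ent P w z) := by
  show msem ω P (e9 w) (e9 z) = _
  rw [msem_apply, ent]
  cases P.testBit (18 * (e9 z).val + (e9 w).val) <;>
    cases P.testBit (18 * (e9 z).val + 9 + (e9 w).val) <;>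
    simp [val, bF, dec, h.sq, add_comm]

theorem dec_succ (ω : F) (v : ℕ) (hv : v < 3) : dec ω (1 + v) = ω ^ v := by
  interval_cases v <;> simp [dec]

theorem msem9_cA (h : IsF4 F ω) (Z : F9) : msem9 ω (cA Z) = j3A F ω Z := by
  ext w z
  rw [msem9_apply_dec h, bitsA, eA, j3A, Matrix.diagonal_apply]
  by_cases hwz : w = z
  · subst hwz
    rw [if_pos rfl, if_pos rfl, dec_succ ω _ (ZMod.val_lt _), omegaPow]
  · rw [if_neg hwz, if_neg hwz]; rfl

theorem msem9_cE (h : IsF4 F ω) (Z : F9) : msem9 ω (cE Z) = j3E F ω Z := by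
  ext w z
  rw [msem9_apply_dec h, bitsE, eE, j3E, Matrix.diagonal_apply]
  by_cases hwz : w = z
  · subst hwz
    rw [if_pos rfl, if_pos rfl, dec_succ ω _ (ZMod.val_lt _), omegaPow]
  · rw [if_neg hwz, if_neg hwz]; rfl

theorem msem9_cD (h : IsF4 F ω) (Z : F9) : msem9 ω (cD Z) = j3D F ω Z := by
  ext w z
  rw [msem9_apply_dec h, bitsD, eD, j3D, Matrix.of_apply, j3Lam]
  split_ifs <;> rfl

theorem msem9_cB (h : IsF4 F ω) (Z : F9) : msem9 ω (cB Z) = j3B F Z := by
  ext w z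
  rw [msem9_apply_dec h, bitsB, eB, j3B, Matrix.of_apply]
  split_ifs <;> rfl

theorem msem9_cC (h : IsF4 F ω) (Z : F9) : msem9 ω (cC Z) = j3C F Z := by
  ext w z
  rw [msem9_apply_dec h, bitsC, eC, j3C, Matrix.of_apply]
  split_ifs <;> rfl

end

/-! ### Where the generators sift to -/

theorem siftA : ∀ Z : F9, (sA Z).1 < 23256 ∧ (sA Z).2 < 6480 ∧
    mulP (Tc tT (sA Z).1) (Ec tE (sA Z).2) = cA Z := by decide +kernel
theorem siftE : ∀ Z : F9, (sE Z).1 < 23256 ∧ (sE Z).2 < 6480 ∧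
    mulP (Tc tT (sE Z).1) (Ec tE (sE Z).2) = cE Z := by decide +kernel
theorem siftD : ∀ Z : F9, (sD Z).1 < 23256 ∧ (sD Z).2 < 6480 ∧
    mulP (Tc tT (sD Z).1) (Ec tE (sD Z).2) = cD Z := by decide +kernel
theorem siftB : ∀ Z : F9, Z ≠ 0 → (sB Z).1 < 23256 ∧ (sB Z).2 < 6480 ∧
    mulP (Tc tT (sB Z).1) (Ec tE (sB Z).2) = cB Z := by decide +kernel
theorem siftC : ∀ Z : F9, Z ≠ 0 → (sC Z).1 < 23256 ∧ (sC Z).2 < 6480 ∧
    mulP (Tc tT (sC Z).1) (Ec tE (sC Z).2) = cC Z := by decide +kernel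

end Cfsg.Agent.H10.J3
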