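import Mathlib

/-!
Abstract lemmas for a verified stabiliser chain: one level of Schreier–Sims in an arbitrary finite
group, and a criterion for the normal subgroups of a group with a large "point stabiliser".
-/

set_option autoImplicit false

namespace Cfsg.Agent.H10

/-- If a set containing `1` is closed under left multiplication by the generators, it contains
the subgroup they generate (finite group). -/
theorem closure_subset_of_mul_closed {Γ : Type*} [Group Γ] [Finite Γ] (S X : Set Γ)
    (h1 : (1 : Γ) ∈ X) (hstep : ∀ g ∈ S, ∀ x ∈ X, g * x ∈ X) :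
    ∀ x ∈ Subgroup.closure S, x ∈ X := by
  have key : ∀ x ∈ Subgroup.closure S, ∀ y ∈ X, x * y ∈ X := by
    intro x hx
    induction hx using Subgroup.closure_induction with
    | mem g hg => exact hstep g hg
    | one => intro y hy; rwa [one_mul]
    | mul a b _ _ iha ihb => intro y hy; rw [mul_assoc]; exact iha _ (ihb y hy)
    | inv a _ iha =>
      have hpow : ∀ k : ℕ, ∀ y ∈ X, a ^ k * y ∈ X := by
        intro k
        induction k with
        | zero => intro y hy; rwa [pow_zero, one_mul]
        | succ k ih => intro y hy; rw [pow_succ, mul_assoc]; exact ih _ (iha y hy)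
      have hinv : a⁻¹ = a ^ (orderOf a - 1) := by
        rw [inv_eq_iff_mul_eq_one, ← pow_succ']
        have : orderOf a - 1 + 1 = orderOf a := by
          have := orderOf_pos a
          omega
        rw [this, pow_orderOf_eq_one]
      rw [hinv]
      exact hpow _
  intro x hx
  have := key x hx 1 h1
  rwa [mul_one] at this

/-- One level: every element of `⟨S⟩` is `T i * h` with `h ∈ H'`. -/
theorem level_struct {Γ : Type*} [Group Γ] [Finite Γ] (S : Set Γ) (H' : Subgroup Γ)
    {n : ℕ} (T : Fin n → Γ) (h1 : ∃ i, T i = 1)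
    (hsift : ∀ s ∈ S, ∀ i, ∃ i', ∃ h ∈ H', s * T i = T i' * h) :
    ∀ x ∈ Subgroup.closure S, ∃ i, ∃ h ∈ H', x = T i * h := by
  apply closure_subset_of_mul_closed S {x | ∃ i, ∃ h ∈ H', x = T i * h}
  · obtain ⟨i, hi⟩ := h1
    exact ⟨i, 1, H'.one_mem, by rw [hi, mul_one]⟩
  · rintro g hg _ ⟨i, h, hh, rfl⟩
    obtain ⟨i', h0, hh0, e⟩ := hsift g hg i
    exact ⟨i', h0 * h, H'.mul_mem hh0 hh, by rw [← mul_assoc, e, mul_assoc]⟩

/-- One level: the order of `⟨S⟩` is `n * |H'|`. -/
theorem level_card {Γ : Type*} [Group Γ] [Finite Γ] {Y : Type*} (S : Set Γ) (H' : Subgroup Γ)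
    {n : ℕ} (T : Fin n → Γ) (φ : Γ → Y) (h1 : ∃ i, T i = 1)
    (hT : ∀ i, T i ∈ Subgroup.closure S) (hH : H' ≤ Subgroup.closure S)
    (hsift : ∀ s ∈ S, ∀ i, ∃ i', ∃ h ∈ H', s * T i = T i' * h)
    (hφ : ∀ g, ∀ h ∈ H', φ (g * h) = φ g)
    (hinj : Function.Injective (fun i => φ (T i))) :
    Nat.card (Subgroup.closure S) = n * Nat.card H' := by
  have hfac := level_struct S H' T h1 hsift
  let f : Fin n × H' → Subgroup.closure S := fun p =>
    ⟨T p.1 * p.2, Subgroup.mul_mem _ (hT p.1) (hH p.2.2)⟩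
  have hf : Function.Bijective f := by
    constructor
    · rintro ⟨i, ⟨h, hh⟩⟩ ⟨i', ⟨h', hh'⟩⟩ e
      have e' : T i * h = T i' * h' := congrArg Subtype.val e
      have e2 : φ (T i) = φ (T i') := by
        rw [← hφ (T i) h hh, ← hφ (T i') h' hh', e']
      have e3 : i = i' := hinj e2
      subst e3
      have e4 : h = h' := mul_left_cancel e'
      subst e4
      rfl
    · rintro ⟨x, hx⟩
      obtain ⟨i, h, hh, rfl⟩ := hfac x hx
      exact ⟨⟨i, ⟨h, hh⟩⟩, rfl⟩
  rw [← Nat.card_congr (Equiv.ofBijective f hf), Nat.card_prod, Nat.card_fin]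

/-- One level: an element of `⟨S⟩` with the same invariant as `T i` lies in `T i * H'`. -/
theorem level_coset {Γ : Type*} [Group Γ] [Finite Γ] {Y : Type*} (S : Set Γ) (H' : Subgroup Γ)
    {n : ℕ} (T : Fin n → Γ) (φ : Γ → Y) (h1 : ∃ i, T i = 1)
    (hsift : ∀ s ∈ S, ∀ i, ∃ i', ∃ h ∈ H', s * T i = T i' * h)
    (hφ : ∀ g, ∀ h ∈ H', φ (g * h) = φ g)
    (hinj : Function.Injective (fun i => φ (T i))) :
    ∀ x ∈ Subgroup.closure S, ∀ i, φ x = φ (T i) → ∃ h ∈ H', x = T i * h := by
  intro x hx i hxi
  obtain ⟨i', h, hh, rfl⟩ := level_struct S H' T h1 hsift x hx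
  rw [hφ _ h hh] at hxi
  have : i' = i := hinj hxi
  subst this
  exact ⟨h, hh, rfl⟩

/-- A normal subgroup whose order is divisible by `p`, in a group whose order is not divisible by
`p²` and which is generated by elements of order dividing `p`, is the whole group. -/
theorem normal_eq_top_of_prime {G : Type*} [Group G] [Finite G] (p : ℕ) [hp : Fact p.Prime]
    (hpp : ¬ p ^ 2 ∣ Nat.card G) (A : Set G) (hA : Subgroup.closure A = ⊤)
    (hAp : ∀ a ∈ A, a ^ p = 1) (N : Subgroup G) [N.Normal] (hN : p ∣ Nat.card N) : N = ⊤ := by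
  have hcop : ¬ p ∣ Nat.card (G ⧸ N) := by
    intro h
    apply hpp
    rw [Subgroup.card_eq_card_quotient_mul_card_subgroup N, pow_two]
    exact Nat.mul_dvd_mul h hN
  rw [eq_top_iff, ← hA, Subgroup.closure_le]
  intro a ha
  have h1 : (QuotientGroup.mk a : G ⧸ N) ^ p = 1 := by
    rw [← QuotientGroup.mk_pow, hAp a ha]; rfl
  have h2 : orderOf (QuotientGroup.mk a : G ⧸ N) ∣ p := orderOf_dvd_of_pow_eq_one h1
  have h3 : orderOf (QuotientGroup.mk a : G ⧸ N) ∣ Nat.card (G ⧸ N) := orderOf_dvd_natCard _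
  rcases (Nat.dvd_prime hp.out).mp h2 with h | h
  · rw [orderOf_eq_one_iff] at h
    exact (QuotientGroup.eq_one_iff a).mp h
  · rw [h] at h3
    exact absurd h3 hcop

/-- `|K : H| * |H| = |K|` for `H ≤ K`. -/
theorem relIndex_mul_card' {G : Type*} [Group G] {H K : Subgroup G} (h : H ≤ K) :
    H.relIndex K * Nat.card H = Nat.card K := by
  have h1 := Subgroup.card_mul_index (H.subgroupOf K)
  rw [Nat.card_congr (Subgroup.subgroupOfEquivOfLe h).toEquiv] at h1
  rw [Subgroup.relIndex, ← h1, mul_comm]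

/-- Normal subgroups of a group with a subgroup `H` of index `23256` all of whose non-trivial
"suborbits" have at least 72 points: each lies in `H` or has order divisible by 17 or 19. -/
theorem normal_le_or_dvd {G : Type*} [Group G] [Finite G] (H : Subgroup G) {Y : Type*}
    (φ : G → Y)
    (hcard : Nat.card G = 23256 * Nat.card H)
    (hφ : ∀ g, ∀ h ∈ H, φ (g * h) = φ g)
    (hφ' : ∀ g g', φ g = φ g' → g⁻¹ * g' ∈ H)
    (hblk : ∀ g : G, g ∉ H → ∃ c : Fin 72 → G, (∀ a, c a ∈ H) ∧
      Function.Injective (fun a => φ (c a * g)))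
    (N : Subgroup G) [hN : N.Normal] :
    N ≤ H ∨ 17 ∣ Nat.card N ∨ 19 ∣ Nat.card N := by
  by_contra hcon
  push Not at hcon
  obtain ⟨hNH, h17, h19⟩ := hcon
  obtain ⟨n, hnN, hnH⟩ := SetLike.not_le_iff_exists.mp hNH
  obtain ⟨c, hcH, hcinj⟩ := hblk n hnH
  -- 73 elements of `N` in distinct cosets of `H`
  let e : Option (Fin 72) → N := fun o =>
    match o with
    | none => 1
    | some a => ⟨c a * n * (c a)⁻¹, hN.conj_mem n hnN (c a)⟩
  have hφe : ∀ a : Fin 72, φ ((e (some a) : N) : G) = φ (c a * n) := by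
    intro a
    show φ (c a * n * (c a)⁻¹) = _
    exact hφ _ _ (H.inv_mem (hcH a))
  have hne : ∀ a : Fin 72, φ (c a * n) ≠ φ (1 : G) := by
    intro a h
    have h2 := hφ' _ _ h
    rw [mul_one] at h2
    have h3 : c a * n ∈ H := by
      have := H.inv_mem h2
      rwa [inv_inv] at this
    have h4 : n ∈ H := by
      have := H.mul_mem (H.inv_mem (hcH a)) h3
      rwa [inv_mul_cancel_left] at this
    exact hnH h4
  let q : Option (Fin 72) → N ⧸ (H.subgroupOf N) := fun o => QuotientGroup.mk (e o)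
  have hq : Function.Injective q := by
    intro o1 o2 h
    have h' : (e o1)⁻¹ * e o2 ∈ H.subgroupOf N := QuotientGroup.eq.mp h
    rw [Subgroup.mem_subgroupOf] at h'
    have h'' : ((e o1 : N) : G)⁻¹ * ((e o2 : N) : G) ∈ H := by simpa using h'
    have hφeq : φ ((e o1 : N) : G) = φ ((e o2 : N) : G) := by
      have := hφ ((e o1 : N) : G) _ h''
      rw [mul_inv_cancel_left] at this
      exact this.symm
    match o1, o2 with
    | none, none => rfl
    | some a, some b =>
      rw [hφe a, hφe b] at hφeq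
      rw [hcinj hφeq]
    | none, some b =>
      rw [hφe b] at hφeq
      exact absurd hφeq.symm (hne b)
    | some a, none =>
      rw [hφe a] at hφeq
      exact absurd hφeq (hne a)
  have hidx : 73 ≤ H.relIndex N := by
    have := Nat.card_le_card_of_injective q hq
    rw [Nat.card_eq_fintype_card, Fintype.card_option, Fintype.card_fin] at this
    exact this
  -- arithmetic
  have hb1 : H.relIndex N ∣ Nat.card N := Subgroup.relIndex_dvd_card H N
  have hsup : Nat.card (H ⊔ N : Subgroup G) * Nat.card (H ⊓ N : Subgroup G) =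
      Nat.card H * Nat.card N := by
    have h1 : N.relIndex (H ⊔ N) = N.relIndex H := Subgroup.relIndex_sup_right H N
    have h2 : N.relIndex (H ⊔ N) * Nat.card N = Nat.card (H ⊔ N : Subgroup G) :=
      relIndex_mul_card' le_sup_right
    have h3 : N.relIndex H * Nat.card (H ⊓ N : Subgroup G) = Nat.card H := by
      rw [← Subgroup.inf_relIndex_left H N]
      exact relIndex_mul_card' inf_le_left
    rw [← h2, h1, ← h3]
    ring
  have hb2 : H.relIndex N * Nat.card (H ⊓ N : Subgroup G) = Nat.card N := by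
    rw [← Subgroup.inf_relIndex_right H N]
    exact relIndex_mul_card' inf_le_right
  have hpos : 0 < Nat.card (H ⊓ N : Subgroup G) := Nat.card_pos
  have hposH : 0 < Nat.card H := Nat.card_pos
  have hb3 : Nat.card (H ⊔ N : Subgroup G) = H.relIndex N * Nat.card H := by
    have : Nat.card (H ⊔ N : Subgroup G) * Nat.card (H ⊓ N : Subgroup G) =
        H.relIndex N * Nat.card H * Nat.card (H ⊓ N : Subgroup G) := by
      rw [hsup, ← hb2]; ring
    exact Nat.eq_of_mul_eq_mul_right hpos this
  have hb4 : H.relIndex N ∣ 23256 := by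
    have h := Subgroup.card_subgroup_dvd_card (H ⊔ N : Subgroup G)
    rw [hb3, hcard] at h
    exact Nat.dvd_of_mul_dvd_mul_right hposH h
  have hc17 : Nat.Coprime (H.relIndex N) 17 := by
    rw [Nat.coprime_comm, Nat.Prime.coprime_iff_not_dvd (by norm_num)]
    exact fun h => h17 (h.trans hb1)
  have hc19 : Nat.Coprime (H.relIndex N) 19 := by
    rw [Nat.coprime_comm, Nat.Prime.coprime_iff_not_dvd (by norm_num)]
    exact fun h => h19 (h.trans hb1)
  have hb5 : H.relIndex N ∣ 72 := by
    have h : H.relIndex N ∣ 72 * (17 * 19) := by norm_num; exact hb4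
    exact (Nat.Coprime.mul_right hc17 hc19).dvd_of_dvd_mul_right h
  have := Nat.le_of_dvd (by norm_num) hb5
  omega

/-- Simplicity of the central quotient from the normal-subgroup dichotomy. -/
theorem isSimpleGroup_quotient_center {G : Type*} [Group G]
    (hdich : ∀ N : Subgroup G, N.Normal → N ≤ Subgroup.center G ∨ N = ⊤)
    (hne : Subgroup.center G ≠ ⊤) : IsSimpleGroup (G ⧸ Subgroup.center G) := by
  have hnt : Nontrivial (G ⧸ Subgroup.center G) := by
    rw [QuotientGroup.nontrivial_iff]
    exact hne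
  refine ⟨fun K hK => ?_⟩
  have hcomap : (K.comap (QuotientGroup.mk' (Subgroup.center G))).Normal := hK.comap _
  have hmap : (K.comap (QuotientGroup.mk' (Subgroup.center G))).map
      (QuotientGroup.mk' (Subgroup.center G)) = K :=
    Subgroup.map_comap_eq_self_of_surjective (QuotientGroup.mk'_surjective _) K
  rcases hdich _ hcomap with h | h
  · left
    rw [← hmap, eq_bot_iff]
    rintro _ ⟨g, hg, rfl⟩
    rw [Subgroup.mem_bot]
    exact (QuotientGroup.eq_one_iff g).mpr (h hg)
  · right
    rw [← hmap, h, Subgroup.map_top_of_surjective _ (QuotientGroup.mk'_surjective _)]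

end Cfsg.Agent.H10
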