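import Cfsg.Agent.H10.J3.Small
import Cfsg.Agent.H10.J3.ChkT
import Cfsg.Agent.H10.J3.ChkE
import Cfsg.Agent.H10.J3.ChkS
import Cfsg.Agent.H10.Level

/-!
The group `3·J₃` of the definitions: a verified stabiliser chain, its order, its centre and the
simplicity of the central quotient.
-/

set_option autoImplicit false
set_option linter.unusedSectionVars false

namespace Cfsg.Agent.H10.J3

open Cfsg.Agent.H10.F4 Cfsg.Spor
open scoped MatrixGroups
open Matrix

theorem lt_of_succ_lt (f : ℕ → ℕ) (n : ℕ) (hs : ∀ e, e + 1 < n → f e < f (e + 1)) :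
    ∀ i j, i < j → j < n → f i < f j := by
  intro i j hij hj
  induction j with
  | zero => omega
  | succ j ih =>
    rcases Nat.lt_succ_iff_lt_or_eq.mp hij with h1 | h1
    · exact (ih h1 (by omega)).trans (hs j hj)
    · subst h1; exact hs i hj

theorem inj_of_succ_lt (f : ℕ → ℕ) (n : ℕ) (hs : ∀ e, e + 1 < n → f e < f (e + 1)) :
    ∀ i j, i < n → j < n → f i = f j → i = j := by
  intro i j hi hj e
  rcases Nat.lt_trichotomy i j with h | h | h
  · exact absurd e (lt_of_succ_lt f n hs i j h hj).ne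
  · exact h
  · exact absurd e.symm (lt_of_succ_lt f n hs j i h hi).ne

theorem bif_beq (a b x y : ℕ) : (bif Nat.beq a b then x else y) = if a = b then x else y := by
  by_cases h : a = b
  · subst h; simp
  · have : Nat.beq a b = false := by
      cases hb : Nat.beq a b
      · rfl
      · exact absurd (Nat.eq_of_beq_eq_true hb) h
    rw [this, if_neg h]; rfl

section

variable {F : Type*} [Field F] {ω : F}

theorem Rep.cancel_left (h : IsF4 F ω) {a c : GL F9 F} {A B C : Nat} (ha : Rep ω a A)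
    (hc : Rep ω c C) (e : C = mulP A B) : Rep ω (a⁻¹ * c) B := by
  unfold Rep at *
  have h1 : (a : Matrix F9 F9 F) * msem9 ω B = c := by rw [hc, e, msem9_mul h, ha]
  rw [Units.val_mul, ← h1, ← mul_assoc, ← Units.val_mul, inv_mul_cancel, Units.val_one, one_mul]

theorem line_mul_left (c g g' : GL F9 F) (e : line g = line g') : line (c * g) = line (c * g') := by
  unfold line at *
  rw [Submodule.span_singleton_eq_span_singleton] at e ⊢
  obtain ⟨z, hz⟩ := e
  refine ⟨z, ?_⟩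
  rw [Units.val_mul, Units.val_mul, ← Matrix.mulVec_mulVec, ← Matrix.mulVec_mulVec, ← hz,
    Units.smul_def, Units.smul_def, Matrix.mulVec_smul]

variable (h : IsF4 F ω)

/-- `C_(2,0)` -/
def gC : GL F9 F := mkGL h (cC (2, 0)) iC inv_C.1 inv_C.2
/-- `D_(2,0)` -/
def gD : GL F9 F := mkGL h (cD (2, 0)) iD inv_D.1 inv_D.2
/-- `D_(2,1)` -/
def gD' : GL F9 F := mkGL h (cD (2, 1)) iD' inv_D'.1 inv_D'.2
/-- `A_(0,1)` -/
def gA : GL F9 F := mkGL h (cA (0, 1)) iA inv_A.1 inv_A.2
/-- the inverse of `A_(0,1)` -/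
def gAi : GL F9 F := mkGL h iA (cA (0, 1)) inv_A.2 inv_A.1
/-- an element of order 19 -/
def gX : GL F9 F := gC h * (gD h * gD' h)
/-- a conjugate of it -/
def gX' : GL F9 F := gA h * gX h * gAi h

theorem rep_gX : Rep ω (gX h) cX := by
  have := Rep.mul h (rep_mkGL h _ _ inv_C.1 inv_C.2)
    (Rep.mul h (rep_mkGL h _ _ inv_D.1 inv_D.2) (rep_mkGL h _ _ inv_D'.1 inv_D'.2))
  rw [cX_eq] at this
  exact this

theorem rep_gX' : Rep ω (gX' h) cX' := by
  have := Rep.mul h (Rep.mul h (rep_mkGL h _ _ inv_A.1 inv_A.2) (rep_gX h))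
    (rep_mkGL h _ _ inv_A.2 inv_A.1)
  rw [cX'_eq] at this
  exact this

theorem gAi_eq : gAi h = (gA h)⁻¹ := by
  apply eq_inv_of_mul_eq_one_left
  apply Rep.unique (Rep.mul h (rep_mkGL h _ _ inv_A.2 inv_A.1) (rep_mkGL h _ _ inv_A.1 inv_A.2))
  rw [inv_A.2]
  exact Rep.one

/-- the generator numbered `s` -/
def gS (s : ℕ) : GL F9 F :=
  match s with
  | 0 => gX h
  | _ => gX' h

/-- its code -/
def cSel (s : ℕ) : ℕ :=
  match s with
  | 0 => cX
  | _ => cX'

theorem rep_gS (s : ℕ) : Rep ω (gS h s) (cSel s) := by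
  cases s with
  | zero => exact rep_gX h
  | succ k => exact rep_gX' h

/-- the group generated by the two elements of order 19 -/
def G : Subgroup (GL F9 F) := Subgroup.closure {gX h, gX' h}

theorem gX_mem : gX h ∈ G h := Subgroup.subset_closure (Set.mem_insert _ _)
theorem gX'_mem : gX' h ∈ G h :=
  Subgroup.subset_closure (Set.mem_insert_of_mem _ (Set.mem_singleton _))

theorem gS_mem (s : ℕ) : gS h s ∈ G h := by
  cases s with
  | zero => exact gX_mem h
  | succ k => exact gX'_mem h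

theorem chkT_step (i : ℕ) (hi : i < 23256) (s : ℕ) :
    Tci tT s i < 23256 ∧ Tce tT s i < 6480 ∧
      mulP (cSel s) (Tc tT i) = Trhs tT tE 324 s i := by
  have := chkT_sound (chkT_all i hi)
  cases s with
  | zero => exact ⟨this.1, this.2.1, this.2.2.1⟩
  | succ k => exact ⟨this.2.2.2.1, this.2.2.2.2.1, this.2.2.2.2.2.1⟩

theorem exT (i : ℕ) (hi : i < 23256) : ∃ g ∈ G h, Rep ω g (Tc tT i) := by
  induction' hd : Tdep tT i using Nat.strong_induction_on with d ih generalizing i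
  by_cases h0 : i = 0
  · subst h0
    exact ⟨1, one_mem _, by rw [Tc_zero]; exact Rep.one⟩
  · obtain ⟨hp, hdep, hci, hce⟩ := (chkT_sound (chkT_all i hi)).2.2.2.2.2.2.2 h0
    obtain ⟨g, hg, hrep⟩ := ih (Tdep tT (Tpj tT i)) (by omega) (Tpj tT i) hp rfl
    refine ⟨gS h (Tps tT i) * g, (G h).mul_mem (gS_mem h _) hg, ?_⟩
    have h1 := (chkT_step (Tpj tT i) hp (Tps tT i)).2.2
    have h2 := Rep.mul h (rep_gS h (Tps tT i)) hrep
    rw [h1, Trhs, hce, hci, bif_beq, if_pos rfl] at h2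
    exact h2

/-- the transversal -/
noncomputable def Tg (i : ℕ) : GL F9 F :=
  if hi : i < 23256 then Classical.choose (exT h i hi) else 1

theorem Tg_mem (i : ℕ) : Tg h i ∈ G h := by
  unfold Tg
  split_ifs with hi
  · exact (Classical.choose_spec (exT h i hi)).1
  · exact one_mem _

theorem Tg_rep (i : ℕ) (hi : i < 23256) : Rep ω (Tg h i) (Tc tT i) := by
  unfold Tg
  rw [dif_pos hi]
  exact (Classical.choose_spec (exT h i hi)).2

theorem Tg_zero : Tg h 0 = 1 :=
  Rep.unique (Tg_rep h 0 (by norm_num)) (by rw [Tc_zero]; exact Rep.one)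

/-- first Schreier generator of the line stabiliser -/
noncomputable def gS0 : GL F9 F := (Tg h 19309)⁻¹ * (gX h * Tg h 4838)
/-- second Schreier generator of the line stabiliser -/
noncomputable def gS1 : GL F9 F := (Tg h 21152)⁻¹ * (gX h * Tg h 9046)

theorem rep_gS0 : Rep ω (gS0 h) cS0 :=
  Rep.cancel_left h (Tg_rep h 19309 (by norm_num))
    (Rep.mul h (rep_gX h) (Tg_rep h 4838 (by norm_num))) sch0

theorem rep_gS1 : Rep ω (gS1 h) cS1 :=
  Rep.cancel_left h (Tg_rep h 21152 (by norm_num))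
    (Rep.mul h (rep_gX h) (Tg_rep h 9046 (by norm_num))) sch1

theorem gS0_mem : gS0 h ∈ G h :=
  (G h).mul_mem ((G h).inv_mem (Tg_mem h _)) ((G h).mul_mem (gX_mem h) (Tg_mem h _))

theorem gS1_mem : gS1 h ∈ G h :=
  (G h).mul_mem ((G h).inv_mem (Tg_mem h _)) ((G h).mul_mem (gX_mem h) (Tg_mem h _))

/-- the stabiliser of the first line -/
noncomputable def H' : Subgroup (GL F9 F) := Subgroup.closure {gS0 h, gS1 h}

theorem H'_le : H' h ≤ G h := by
  unfold H'
  rw [Subgroup.closure_le]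
  rintro g (rfl | rfl)
  · exact gS0_mem h
  · exact gS1_mem h

/-- the Schreier generator numbered `s` -/
noncomputable def gSS (s : ℕ) : GL F9 F :=
  match s with
  | 0 => gS0 h
  | _ => gS1 h

/-- its code -/
def cSS (s : ℕ) : ℕ :=
  match s with
  | 0 => cS0
  | _ => cS1

theorem rep_gSS (s : ℕ) : Rep ω (gSS h s) (cSS s) := by
  cases s with
  | zero => exact rep_gS0 h
  | succ k => exact rep_gS1 h

theorem gSS_mem (s : ℕ) : gSS h s ∈ H' h := by
  cases s with
  | zero => exact Subgroup.subset_closure (Set.mem_insert _ _)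
  | succ k => exact Subgroup.subset_closure (Set.mem_insert_of_mem _ (Set.mem_singleton _))

theorem chkE_step (e : ℕ) (he : e < 6480) (s : ℕ) :
    Enx tE s e < 6480 ∧ mulP (cSS s) (Ec tE e) = Ec tE (Enx tE s e) := by
  have := chkE_sound (chkE_all e he)
  cases s with
  | zero => exact ⟨this.1, this.2.2.1⟩
  | succ k => exact ⟨this.2.1, this.2.2.2.1⟩

theorem exE (e : ℕ) (he : e < 6480) : ∃ g ∈ H' h, Rep ω g (Ec tE e) := by
  induction' hd : Edep tE e using Nat.strong_induction_on with d ih generalizing e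
  by_cases h0 : e = 324
  · subst h0
    exact ⟨1, one_mem _, by rw [Ec_eid]; exact Rep.one⟩
  · obtain ⟨hp, hdep, hnx⟩ := (chkE_sound (chkE_all e he)).2.2.2.2.2 h0
    obtain ⟨g, hg, hrep⟩ := ih (Edep tE (Epj tE e)) (by omega) (Epj tE e) hp rfl
    refine ⟨gSS h (Eps tE e) * g, (H' h).mul_mem (gSS_mem h _) hg, ?_⟩
    have h1 := (chkE_step (Epj tE e) hp (Eps tE e)).2
    have h2 := Rep.mul h (rep_gSS h (Eps tE e)) hrep
    rw [h1, hnx] at h2
    exact h2

/-- the elements of the line stabiliser -/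
noncomputable def Eg (e : ℕ) : GL F9 F :=
  if he : e < 6480 then Classical.choose (exE h e he) else 1

theorem Eg_mem (e : ℕ) : Eg h e ∈ H' h := by
  unfold Eg
  split_ifs with he
  · exact (Classical.choose_spec (exE h e he)).1
  · exact one_mem _

theorem Eg_rep (e : ℕ) (he : e < 6480) : Rep ω (Eg h e) (Ec tE e) := by
  unfold Eg
  rw [dif_pos he]
  exact (Classical.choose_spec (exE h e he)).2

theorem Eg_eid : Eg h 324 = 1 :=
  Rep.unique (Eg_rep h 324 (by norm_num)) (by rw [Ec_eid]; exact Rep.one)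

theorem codeOf_Ec (e : ℕ) : codeOf (Ec tE e) = Ec tE e := by
  unfold Ec
  rw [codeOf_eq, codeOf_eq, Nat.mod_mod]

theorem Eg_inj (i j : ℕ) (hi : i < 6480) (hj : j < 6480) (e : Eg h i = Eg h j) : i = j := by
  have h1 := Eg_rep h i hi
  rw [e] at h1
  have h2 := Rep.inj h h1 (Eg_rep h j hj)
  rw [codeOf_Ec, codeOf_Ec] at h2
  refine inj_of_succ_lt (Ec tE) 6480 (fun e he => ?_) i j hi hj h2
  exact (chkE_sound (chkE_all e (by omega))).2.2.2.2.1 (by omega)

end

section

variable {F : Type*} [Field F] [Finite F] {ω : F} (h : IsF4 F ω)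

theorem flat_sift : ∀ s ∈ ({gS0 h, gS1 h} : Set (GL F9 F)), ∀ i : Fin 6480,
    ∃ i' : Fin 6480, ∃ k ∈ (⊥ : Subgroup (GL F9 F)), s * Eg h i = Eg h i' * k := by
  have key : ∀ s : ℕ, ∀ i : Fin 6480,
      ∃ i' : Fin 6480, ∃ k ∈ (⊥ : Subgroup (GL F9 F)), gSS h s * Eg h i = Eg h i' * k := by
    intro s i
    obtain ⟨h1, h2⟩ := chkE_step i.1 i.2 s
    refine ⟨⟨Enx tE s i, h1⟩, 1, Subgroup.mem_bot.mpr rfl, ?_⟩
    rw [mul_one]
    apply Rep.unique (Rep.mul h (rep_gSS h s) (Eg_rep h i i.2))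
    rw [h2]
    exact Eg_rep h _ h1
  rintro s (rfl | rfl) i
  · exact key 0 i
  · exact key 1 i

theorem H'_struct : ∀ g ∈ H' h, ∃ e, e < 6480 ∧ g = Eg h e := by
  intro g hg
  obtain ⟨i, k, hk, e⟩ := level_struct ({gS0 h, gS1 h} : Set (GL F9 F)) ⊥
    (fun i : Fin 6480 => Eg h i) ⟨⟨324, by norm_num⟩, Eg_eid h⟩ (flat_sift h) g hg
  rw [Subgroup.mem_bot] at hk
  rw [hk, mul_one] at e
  exact ⟨i, i.2, e⟩

theorem H'_card : Nat.card (H' h) = 6480 := by
  have := level_card ({gS0 h, gS1 h} : Set (GL F9 F)) ⊥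
    (fun i : Fin 6480 => Eg h i) (fun g => g) ⟨⟨324, by norm_num⟩, Eg_eid h⟩
    (fun i => Eg_mem h i) bot_le (flat_sift h)
    (fun g k hk => by rw [Subgroup.mem_bot] at hk; rw [hk, mul_one])
    (fun i j e => Fin.ext (Eg_inj h i j i.2 j.2 e))
  rw [Subgroup.card_bot, mul_one] at this
  exact this

/-- the stabiliser of the first line in `GL₉` -/
def lineStab (F : Type*) [Field F] : Subgroup (GL F9 F) where
  carrier := {k | line k = line 1}
  one_mem' := rfl
  mul_mem' := by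
    intro a b ha hb
    show line (a * b) = line 1
    rw [line_mul_of_fix a b hb]
    exact ha
  inv_mem' := by
    intro a ha
    show line a⁻¹ = line 1
    rw [← line_mul_of_fix a⁻¹ a ha, inv_mul_cancel]

theorem line_H' : ∀ k ∈ H' h, line k = line 1 := by
  have : H' h ≤ lineStab F := by
    unfold H'
    rw [Subgroup.closure_le]
    rintro g (rfl | rfl)
    · exact (line_eq_iff h (rep_gS0 h) Rep.one).mpr key_cS.1
    · exact (line_eq_iff h (rep_gS1 h) Rep.one).mpr key_cS.2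
  exact fun k hk => this hk

theorem line_mul_H' (g k : GL F9 F) (hk : k ∈ H' h) : line (g * k) = line g :=
  line_mul_of_fix g k (line_H' h k hk)

theorem Tg_line_inj (i j : ℕ) (hi : i < 23256) (hj : j < 23256)
    (e : line (Tg h i) = line (Tg h j)) : i = j := by
  have h2 := (line_eq_iff h (Tg_rep h i hi) (Tg_rep h j hj)).mp e
  refine inj_of_succ_lt (fun i => key (Tc tT i)) 23256 (fun e he => ?_) i j hi hj h2
  exact (chkT_sound (chkT_all e (by omega))).2.2.2.2.2.2.1 (by omega)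

theorem rep_Trhs (s i : ℕ) (hi : i < 23256) :
    Rep ω (Tg h (Tci tT s i) * Eg h (Tce tT s i)) (Trhs tT tE 324 s i) := by
  obtain ⟨h1, h2, -⟩ := chkT_step i hi s
  unfold Trhs
  rw [bif_beq]
  by_cases he : Tce tT s i = 324
  · rw [if_pos he, he, Eg_eid, mul_one]
    exact Tg_rep h _ h1
  · rw [if_neg he]
    exact Rep.mul h (Tg_rep h _ h1) (Eg_rep h _ h2)

theorem lvl_sift : ∀ s ∈ ({gX h, gX' h} : Set (GL F9 F)), ∀ i : Fin 23256,
    ∃ i' : Fin 23256, ∃ k ∈ H' h, s * Tg h i = Tg h i' * k := by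
  have key : ∀ s : ℕ, ∀ i : Fin 23256,
      ∃ i' : Fin 23256, ∃ k ∈ H' h, gS h s * Tg h i = Tg h i' * k := by
    intro s i
    obtain ⟨h1, h2, h3⟩ := chkT_step i.1 i.2 s
    refine ⟨⟨Tci tT s i, h1⟩, Eg h (Tce tT s i), Eg_mem h _, ?_⟩
    apply Rep.unique (Rep.mul h (rep_gS h s) (Tg_rep h i i.2))
    rw [h3]
    exact rep_Trhs h s i i.2
  rintro s (rfl | rfl) i
  · exact key 0 i
  · exact key 1 i

theorem G_struct : ∀ g ∈ G h, ∃ i, i < 23256 ∧ ∃ k ∈ H' h, g = Tg h i * k := by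
  intro g hg
  obtain ⟨i, k, hk, e⟩ := level_struct ({gX h, gX' h} : Set (GL F9 F)) (H' h)
    (fun i : Fin 23256 => Tg h i) ⟨⟨0, by norm_num⟩, Tg_zero h⟩ (lvl_sift h) g hg
  exact ⟨i, i.2, k, hk, e⟩

theorem G_card : Nat.card (G h) = 150698880 := by
  have := level_card ({gX h, gX' h} : Set (GL F9 F)) (H' h)
    (fun i : Fin 23256 => Tg h i) (fun g => line g) ⟨⟨0, by norm_num⟩, Tg_zero h⟩
    (fun i => Tg_mem h i) (H'_le h) (lvl_sift h)
    (fun g k hk => line_mul_H' h g k hk)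
    (fun i j e => Fin.ext (Tg_line_inj h i j i.2 j.2 e))
  rw [H'_card] at this
  exact this

theorem G_coset (g : GL F9 F) (hg : g ∈ G h) (i : ℕ) (hi : i < 23256)
    (e : line g = line (Tg h i)) : ∃ k ∈ H' h, g = Tg h i * k :=
  level_coset ({gX h, gX' h} : Set (GL F9 F)) (H' h)
    (fun i : Fin 23256 => Tg h i) (fun g => line g) ⟨⟨0, by norm_num⟩, Tg_zero h⟩
    (lvl_sift h) (fun g k hk => line_mul_H' h g k hk)
    (fun i j e => Fin.ext (Tg_line_inj h i j i.2 j.2 e)) g hg ⟨i, hi⟩ e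

end

end Cfsg.Agent.H10.J3
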