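import Cfsg.Agent.H10.F4Sem2
import Cfsg.Prelude.Def_Spor_J3

/-!
Packed codes as elements of `GL₉` indexed by the nine-element index set `F9` of the `J₃`
definitions, and the line through the image of the first basis vector.
-/

set_option autoImplicit false

namespace Cfsg.Agent.H10.J3

open Cfsg.Agent.H10.F4 Cfsg.Spor
open scoped MatrixGroups
open Matrix

/-- numbering of the index set: `(x, y) ↦ 3 x + y` -/
def e9 : F9 ≃ Fin 9 := (finProdFinEquiv : Fin 3 × Fin 3 ≃ Fin (3 * 3))

theorem e9_zero : e9 (0 : F9) = 0 := by decide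

section

variable {F : Type*} [Field F] {ω : F}

/-- the `F9`-indexed matrix of a code -/
def msem9 (ω : F) (P : Nat) : Matrix F9 F9 F := (msem ω P).submatrix e9 e9

theorem msem9_mul (h : IsF4 F ω) (a b : Nat) : msem9 ω (mulP a b) = msem9 ω a * msem9 ω b := by
  unfold msem9
  rw [msem_mul ω h.two h.root, Matrix.submatrix_mul_equiv]

theorem msem9_one : msem9 ω ONE = 1 := by
  unfold msem9
  rw [msem_one, Matrix.submatrix_one_equiv]

theorem msem9_codeOf (P : Nat) : msem9 ω (codeOf P) = msem9 ω P := by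
  unfold msem9
  rw [msem_codeOf]

theorem msem9_inj (h : IsF4 F ω) {P Q : Nat} (e : msem9 ω P = msem9 ω Q) :
    codeOf P = codeOf Q := by
  apply msem_inj h
  ext r j
  have := congrFun (congrFun e (e9.symm r)) (e9.symm j)
  simpa [msem9] using this

theorem msem9_wAll (h : IsF4 F ω) (P : Nat) : msem9 ω (wAll P) = ω • msem9 ω P := by
  unfold msem9
  rw [msem_wAll ω h.two h.root]
  rfl

theorem msem9_powP (h : IsF4 F ω) (a : Nat) (n : ℕ) : msem9 ω (powP a n) = msem9 ω a ^ n := by
  induction n with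
  | zero => rw [powP, msem9_one, pow_zero]
  | succ n ih => rw [powP, msem9_mul h, ih, pow_succ']

/-- the element `g` of `GL₉` has the code `P` -/
def Rep (ω : F) (g : GL F9 F) (P : Nat) : Prop := (g : Matrix F9 F9 F) = msem9 ω P

theorem Rep.mul (h : IsF4 F ω) {g g' : GL F9 F} {P Q : Nat} (hg : Rep ω g P) (hg' : Rep ω g' Q) :
    Rep ω (g * g') (mulP P Q) := by
  unfold Rep at *
  rw [Units.val_mul, hg, hg', msem9_mul h]

theorem Rep.one : Rep ω (1 : GL F9 F) ONE := by
  unfold Rep
  rw [Units.val_one, msem9_one]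

theorem Rep.unique {g g' : GL F9 F} {P : Nat} (hg : Rep ω g P) (hg' : Rep ω g' P) : g = g' :=
  Units.ext (hg.trans hg'.symm)

theorem Rep.inj (h : IsF4 F ω) {g : GL F9 F} {P Q : Nat} (hg : Rep ω g P) (hg' : Rep ω g Q) :
    codeOf P = codeOf Q := msem9_inj h (hg.symm.trans hg')

theorem Rep.codeOf {g : GL F9 F} {P : Nat} (hg : Rep ω g P) : Rep ω g (codeOf P) := by
  unfold Rep at *
  rw [msem9_codeOf, hg]

theorem Rep.of_codeOf {g : GL F9 F} {P : Nat} (hg : Rep ω g (F4.codeOf P)) : Rep ω g P := by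
  unfold Rep at *
  rw [hg, msem9_codeOf]

theorem Rep.pow (h : IsF4 F ω) {g : GL F9 F} {P : Nat} (hg : Rep ω g P) (n : ℕ) :
    Rep ω (g ^ n) (powP P n) := by
  unfold Rep at *
  rw [Units.val_pow_eq_pow_val, hg, msem9_powP h]

/-- the element of `GL₉` with code `P`, given the code `Q` of its inverse -/
def mkGL (h : IsF4 F ω) (P Q : Nat) (h1 : mulP P Q = ONE) (h2 : mulP Q P = ONE) : GL F9 F :=
  ⟨msem9 ω P, msem9 ω Q, by rw [← msem9_mul h, h1, msem9_one],
    by rw [← msem9_mul h, h2, msem9_one]⟩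

theorem rep_mkGL (h : IsF4 F ω) (P Q : Nat) (h1 : mulP P Q = ONE) (h2 : mulP Q P = ONE) :
    Rep ω (mkGL h P Q h1 h2) P := rfl

/-- the line through the image of the first basis vector -/
def line (g : GL F9 F) : Submodule F (F9 → F) :=
  F ∙ ((g : Matrix F9 F9 F) *ᵥ (Pi.single (0 : F9) (1 : F)))

theorem mulVec_e0 (g : GL F9 F) {P : Nat} (hg : Rep ω g P) :
    (g : Matrix F9 F9 F) *ᵥ (Pi.single (0 : F9) (1 : F)) = fun w => colv ω P (e9 w) := by
  rw [Matrix.mulVec_single_one, hg]
  funext w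
  show msem ω P (e9 w) (e9 0) = msem ω P (e9 w) 0
  rw [e9_zero]

theorem line_eq_iff (h : IsF4 F ω) {g g' : GL F9 F} {P Q : Nat} (hg : Rep ω g P)
    (hg' : Rep ω g' Q) : line g = line g' ↔ key P = key Q := by
  unfold line
  rw [mulVec_e0 g hg, mulVec_e0 g' hg', Submodule.span_singleton_eq_span_singleton]
  constructor
  · rintro ⟨z, hz⟩
    apply (key_eq_of_colv h (z : F) z.ne_zero _).symm
    funext r
    have := congrFun hz (e9.symm r)
    simp only [Pi.smul_apply, Equiv.apply_symm_apply] at this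
    rw [← this]
    rfl
  · intro e
    obtain ⟨c, hc, hcol⟩ := colv_of_key_eq (ω := ω) h e.symm
    refine ⟨Units.mk0 c hc, ?_⟩
    funext w
    rw [hcol]
    rfl

theorem line_mul_of_fix (g k : GL F9 F) (hk : line k = line 1) : line (g * k) = line g := by
  unfold line at *
  rw [Units.val_one, Matrix.one_mulVec, Submodule.span_singleton_eq_span_singleton] at hk
  obtain ⟨z, hz⟩ := hk
  rw [Submodule.span_singleton_eq_span_singleton]
  refine ⟨z, ?_⟩
  rw [Units.val_mul, ← Matrix.mulVec_mulVec, Units.smul_def, ← Matrix.mulVec_smul,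
    ← Units.smul_def, hz]

end

end Cfsg.Agent.H10.J3
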