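import Cfsg.Agent.H10.J3Main

/-!
`3·J₃`: the group of the definitions is the group of the stabiliser chain; its centre and the
simplicity of its central quotient.
-/

set_option autoImplicit false
set_option linter.unusedSectionVars false

namespace Cfsg.Agent.H10.J3

open Cfsg.Agent.H10.F4 Cfsg.Spor
open scoped MatrixGroups
open Matrix

section

variable {F : Type*} [Field F] [Finite F] {ω : F} (h : IsF4 F ω)

theorem gen_mem_G (g : GL F9 F) (P : ℕ) (s : ℕ × ℕ) (hg : Rep ω g P) (h1 : s.1 < 23256)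
    (h2 : s.2 < 6480) (e : mulP (Tc tT s.1) (Ec tE s.2) = P) : g ∈ G h := by
  have : g = Tg h s.1 * Eg h s.2 :=
    Rep.unique hg (by rw [← e]; exact Rep.mul h (Tg_rep h _ h1) (Eg_rep h _ h2))
  rw [this]
  exact (G h).mul_mem (Tg_mem h _) (H'_le h (Eg_mem h _))

theorem threeJ3_le : threeJ3 F ω ≤ G h := by
  unfold threeJ3
  rw [Subgroup.closure_le]
  intro g hg
  simp only [Set.mem_ofPred_eq, j3Gens, Set.mem_union, Set.mem_range] at hg
  rcases hg with (((⟨Z, hZ⟩ | ⟨Z, hZ⟩) | ⟨Z, hZ⟩) | ⟨Z, hZ0, hZ⟩) | ⟨Z, hZ0, hZ⟩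
  · exact gen_mem_G h g (cA Z) (sA Z) (by unfold Rep; rw [msem9_cA h, hZ]) (siftA Z).1
      (siftA Z).2.1 (siftA Z).2.2
  · exact gen_mem_G h g (cE Z) (sE Z) (by unfold Rep; rw [msem9_cE h, hZ]) (siftE Z).1
      (siftE Z).2.1 (siftE Z).2.2
  · exact gen_mem_G h g (cD Z) (sD Z) (by unfold Rep; rw [msem9_cD h, hZ]) (siftD Z).1
      (siftD Z).2.1 (siftD Z).2.2
  · exact gen_mem_G h g (cB Z) (sB Z) (by unfold Rep; rw [msem9_cB h, hZ]) (siftB Z hZ0).1
      (siftB Z hZ0).2.1 (siftB Z hZ0).2.2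
  · exact gen_mem_G h g (cC Z) (sC Z) (by unfold Rep; rw [msem9_cC h, hZ]) (siftC Z hZ0).1
      (siftC Z hZ0).2.1 (siftC Z hZ0).2.2

theorem G_le : G h ≤ threeJ3 F ω := by
  have hC : gC h ∈ threeJ3 F ω := Subgroup.subset_closure
    (Or.inr ⟨(2, 0), by decide, msem9_cC h _⟩)
  have hD : gD h ∈ threeJ3 F ω := Subgroup.subset_closure
    (Or.inl (Or.inl (Or.inr ⟨(2, 0), (msem9_cD h _).symm⟩)))
  have hD' : gD' h ∈ threeJ3 F ω := Subgroup.subset_closure
    (Or.inl (Or.inl (Or.inr ⟨(2, 1), (msem9_cD h _).symm⟩)))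
  have hA : gA h ∈ threeJ3 F ω := Subgroup.subset_closure
    (Or.inl (Or.inl (Or.inl (Or.inl ⟨(0, 1), (msem9_cA h _).symm⟩))))
  have hX : gX h ∈ threeJ3 F ω := Subgroup.mul_mem _ hC (Subgroup.mul_mem _ hD hD')
  have hX' : gX' h ∈ threeJ3 F ω := by
    unfold gX'
    rw [gAi_eq]
    exact Subgroup.mul_mem _ (Subgroup.mul_mem _ hA hX) (Subgroup.inv_mem _ hA)
  unfold G
  rw [Subgroup.closure_le]
  rintro g (rfl | rfl)
  · exact hX
  · exact hX'

theorem threeJ3_eq : threeJ3 F ω = G h := le_antisymm (threeJ3_le h) (G_le h)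

/-! ### Suborbits -/

theorem blk (g : GL F9 F) (hg : g ∈ G h) (hgH : g ∉ H' h) :
    ∃ c : Fin 72 → GL F9 F, (∀ a, c a ∈ H' h) ∧ Function.Injective (fun a => line (c a * g)) := by
  obtain ⟨i, hi, k, hk, rfl⟩ := G_struct h g hg
  have hi0 : i ≠ 0 := by
    rintro rfl
    rw [Tg_zero, one_mul] at hgH
    exact hgH hk
  obtain ⟨hr0, hr28, hlnk, hrep, hkey⟩ := chkSub_sound (chkSub_all i hi) hi0
  have hrepk : ∀ a, a < 72 → chkRep tT tE tR tL 6480 (Trep tT i) a = true :=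
    fun a ha => chkRep_all (Trep tT i) a hr0 hr28 ha
  have hline : line (Tg h i * k) = line (Eg h (Tlnk tT i) * Tg h (tR.get (Trep tT i))) := by
    rw [line_mul_H' h _ k hk]
    exact (line_eq_iff h (Tg_rep h i hi) (Rep.mul h (Eg_rep h _ hlnk) (Tg_rep h _ hrep))).mpr
      hkey.symm
  refine ⟨fun a => Eg h (tL.get (128 * Trep tT i + a)) * (Eg h (Tlnk tT i))⁻¹,
    fun a => (H' h).mul_mem (Eg_mem h _) ((H' h).inv_mem (Eg_mem h _)), ?_⟩
  intro a b e
  have hl : ∀ a : Fin 72, line (Eg h (tL.get (128 * Trep tT i + a)) * (Eg h (Tlnk tT i))⁻¹ *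
      (Tg h i * k)) = line (Eg h (tL.get (128 * Trep tT i + a)) * Tg h (tR.get (Trep tT i))) := by
    intro a
    rw [line_mul_left _ _ _ hline]
    congr 1
    group
  simp only at e
  rw [hl a, hl b] at e
  have e2 := (line_eq_iff h
    (Rep.mul h (Eg_rep h _ (chkRep_sound (hrepk a a.2)).1) (Tg_rep h _ hrep))
    (Rep.mul h (Eg_rep h _ (chkRep_sound (hrepk b b.2)).1) (Tg_rep h _ hrep))).mp e
  apply Fin.ext
  refine inj_of_succ_lt (fun a => key (mulP (Ec tE (tL.get (128 * Trep tT i + a)))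
    (Tc tT (tR.get (Trep tT i))))) 72 (fun c hc => ?_) a b a.2 b.2 e2
  exact (chkRep_sound (hrepk c (by omega))).2 (by omega)

/-! ### The core of the line stabiliser -/

theorem core (N : Subgroup (GL F9 F)) (hNH : N ≤ H' h)
    (hnorm : ∀ n ∈ N, ∀ g ∈ G h, g⁻¹ * n * g ∈ N) :
    ∀ n ∈ N, n = 1 ∨ n = Eg h 4981 ∨ n = Eg h 5102 := by
  intro n hn
  obtain ⟨e, he, rfl⟩ := H'_struct h n (hNH hn)
  have h1 : line ((Tg h 17560)⁻¹ * Eg h e * Tg h 17560) = line 1 :=
    line_H' h _ (hNH (hnorm _ hn _ (Tg_mem h _)))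
  have h2 := line_mul_left (Tg h 17560) _ _ h1
  have h3 : Tg h 17560 * ((Tg h 17560)⁻¹ * Eg h e * Tg h 17560) = Eg h e * Tg h 17560 := by group
  rw [h3, mul_one] at h2
  have h4 := (line_eq_iff h (Rep.mul h (Eg_rep h e he) (Tg_rep h 17560 (by norm_num)))
    (Tg_rep h 17560 (by norm_num))).mp h2
  have h5 := chkCore_sound (chkCore_all e he) (fun i hi => by
    rw [List.mem_singleton] at hi
    subst hi
    exact h4)
  rcases h5 with rfl | rfl | rfl
  · left; exact Eg_eid h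
  · right; left; rfl
  · right; right; rfl

theorem Eg_scal1 : ((Eg h 4981 : GL F9 F) : Matrix F9 F9 F) = ω • (1 : Matrix F9 F9 F) := by
  have := Eg_rep h 4981 (by norm_num)
  unfold Rep at this
  rw [this, scal1, msem9_codeOf, msem9_wAll h, msem9_one]

theorem Eg_scal2 : ((Eg h 5102 : GL F9 F) : Matrix F9 F9 F) =
    ω • (ω • (1 : Matrix F9 F9 F)) := by
  have := Eg_rep h 5102 (by norm_num)
  unfold Rep at this
  rw [this, scal2, msem9_codeOf, msem9_wAll h, msem9_wAll h, msem9_one]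

theorem comm_of_scal (z g : GL F9 F) (c : F) (hz : (z : Matrix F9 F9 F) = c • (1 : Matrix F9 F9 F)) :
    g * z = z * g := by
  apply Units.ext
  rw [Units.val_mul, Units.val_mul, hz, mul_smul_comm, smul_mul_assoc, mul_one, one_mul]

theorem comm_core (z : GL F9 F) (hz : z = 1 ∨ z = Eg h 4981 ∨ z = Eg h 5102) (g : GL F9 F) :
    g * z = z * g := by
  rcases hz with rfl | rfl | rfl
  · rw [mul_one, one_mul]
  · exact comm_of_scal _ g ω (Eg_scal1 h)
  · refine comm_of_scal _ g (ω * ω) ?_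
    rw [Eg_scal2, smul_smul]

theorem gX_pow : gX h ^ 19 = 1 :=
  Rep.unique (Rep.pow h (rep_gX h) 19) (by rw [pow_cX.1]; exact Rep.one)

theorem gX'_pow : gX' h ^ 19 = 1 :=
  Rep.unique (Rep.pow h (rep_gX' h) 19) (by rw [pow_cX.2]; exact Rep.one)

theorem gX_noncomm : gX h * gX' h ≠ gX' h * gX h := by
  intro e
  have h1 := Rep.mul h (rep_gX h) (rep_gX' h)
  rw [e] at h1
  exact noncomm (Rep.inj h h1 (Rep.mul h (rep_gX' h) (rep_gX h)))

/-- the elements of order 17 -/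
noncomputable def gU (s : ℕ × ℕ) : GL F9 F := Tg h s.1 * Eg h s.2

theorem gU_mem (s : ℕ × ℕ) : gU h s ∈ G h := (G h).mul_mem (Tg_mem h _) (H'_le h (Eg_mem h _))

theorem rep_gU (s : ℕ × ℕ) (h1 : s.1 < 23256) (h2 : s.2 < 6480) :
    Rep ω (gU h s) (mulP (Tc tT s.1) (Ec tE s.2)) := Rep.mul h (Tg_rep h _ h1) (Eg_rep h _ h2)

theorem rep_U : Rep ω (gU h sU) cU ∧ Rep ω (gU h sV) cV ∧ Rep ω (gU h sU') cU' ∧
    Rep ω (gU h sV') cV' := by
  refine ⟨?_, ?_, ?_, ?_⟩
  · have := rep_gU h sU (by decide) (by decide)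
    rwa [sift_cU.1] at this
  · have := rep_gU h sV (by decide) (by decide)
    rwa [sift_cU.2.1] at this
  · have := rep_gU h sU' (by decide) (by decide)
    rwa [sift_cU.2.2.1] at this
  · have := rep_gU h sV' (by decide) (by decide)
    rwa [sift_cU.2.2.2] at this

theorem gU_pow : gU h sU ^ 17 = 1 ∧ gU h sV ^ 17 = 1 ∧ gU h sU' ^ 17 = 1 ∧ gU h sV' ^ 17 = 1 := by
  obtain ⟨h1, h2, h3, h4⟩ := rep_U h
  refine ⟨?_, ?_, ?_, ?_⟩
  · exact Rep.unique (Rep.pow h h1 17) (by rw [pow_cU.1]; exact Rep.one)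
  · exact Rep.unique (Rep.pow h h2 17) (by rw [pow_cU.2.1]; exact Rep.one)
  · exact Rep.unique (Rep.pow h h3 17) (by rw [pow_cU.2.2.1]; exact Rep.one)
  · exact Rep.unique (Rep.pow h h4 17) (by rw [pow_cU.2.2.2]; exact Rep.one)

theorem gU_mul : gU h sU * gU h sV = gX h ∧ gU h sU' * gU h sV' = gX' h := by
  obtain ⟨h1, h2, h3, h4⟩ := rep_U h
  constructor
  · exact Rep.unique (Rep.mul h h1 h2) (by rw [mul_cU.1]; exact rep_gX h)
  · exact Rep.unique (Rep.mul h h3 h4) (by rw [mul_cU.2]; exact rep_gX' h)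


/-! ### Normal subgroups -/

/-- the line stabiliser inside the group -/
noncomputable def HK : Subgroup (G h) := (H' h).subgroupOf (G h)

theorem HK_card : Nat.card (HK h) = 6480 := by
  unfold HK
  rw [Nat.card_congr (Subgroup.subgroupOfEquivOfLe (H'_le h)).toEquiv, H'_card]

theorem dich_aux (N : Subgroup (G h)) [N.Normal] :
    N ≤ HK h ∨ 17 ∣ Nat.card N ∨ 19 ∣ Nat.card N := by
  refine normal_le_or_dvd (HK h) (fun g : G h => line (g : GL F9 F)) ?_ ?_ ?_ ?_ N
  · rw [HK_card, G_card]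
  · intro g k hk
    exact line_mul_H' h _ _ (Subgroup.mem_subgroupOf.mp hk)
  · intro g g' e
    obtain ⟨i, hi, a, ha, hg⟩ := G_struct h g.1 g.2
    have e' : line (g' : GL F9 F) = line (Tg h i) := by
      rw [← e, hg, line_mul_H' h _ a ha]
    obtain ⟨b, hb, hg'⟩ := G_coset h g'.1 g'.2 i hi e'
    rw [HK, Subgroup.mem_subgroupOf]
    have : ((g⁻¹ * g' : G h) : GL F9 F) = a⁻¹ * b := by
      rw [Subgroup.coe_mul, Subgroup.coe_inv, hg, hg']; group
    rw [this]
    exact (H' h).mul_mem ((H' h).inv_mem ha) hb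
  · intro g hg
    obtain ⟨c, hc, hinj⟩ := blk h g.1 g.2 (fun hh => hg (Subgroup.mem_subgroupOf.mpr hh))
    exact ⟨fun a => ⟨c a, H'_le h (hc a)⟩, fun a => Subgroup.mem_subgroupOf.mpr (hc a), hinj⟩

theorem closure_gX : Subgroup.closure (((↑) : G h → GL F9 F) ⁻¹' {gX h, gX' h}) = ⊤ :=
  Subgroup.closure_closure_coe_preimage

theorem top_of_19 (N : Subgroup (G h)) [N.Normal] (hN : 19 ∣ Nat.card N) : N = ⊤ := by
  have : Fact (Nat.Prime 19) := ⟨by norm_num⟩
  refine normal_eq_top_of_prime 19 ?_ (((↑) : G h → GL F9 F) ⁻¹' {gX h, gX' h}) (closure_gX h)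
    ?_ N hN
  · rw [G_card]; norm_num
  · rintro a (ha | ha)
    · apply Subtype.ext
      rw [Subgroup.coe_pow, ha, gX_pow]; rfl
    · apply Subtype.ext
      rw [Subgroup.coe_pow, ha, gX'_pow]; rfl

theorem top_of_17 (N : Subgroup (G h)) [N.Normal] (hN : 17 ∣ Nat.card N) : N = ⊤ := by
  have : Fact (Nat.Prime 17) := ⟨by norm_num⟩
  obtain ⟨p1, p2, p3, p4⟩ := gU_pow h
  obtain ⟨m1, m2⟩ := gU_mul h
  refine normal_eq_top_of_prime 17 ?_
    (((↑) : G h → GL F9 F) ⁻¹' {gU h sU, gU h sV, gU h sU', gU h sV'}) ?_ ?_ N hN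
  · rw [G_card]; norm_num
  · rw [eq_top_iff, ← closure_gX h, Subgroup.closure_le]
    rintro a (ha | ha)
    · have : a = ⟨gU h sU, gU_mem h _⟩ * ⟨gU h sV, gU_mem h _⟩ :=
        Subtype.ext (by rw [ha, ← m1]; rfl)
      rw [this]
      exact Subgroup.mul_mem _ (Subgroup.subset_closure (by simp))
        (Subgroup.subset_closure (by simp))
    · have : a = ⟨gU h sU', gU_mem h _⟩ * ⟨gU h sV', gU_mem h _⟩ :=
        Subtype.ext (by rw [ha, ← m2]; rfl)
      rw [this]
      exact Subgroup.mul_mem _ (Subgroup.subset_closure (by simp))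
        (Subgroup.subset_closure (by simp))
  · rintro a (ha | ha | ha | ha)
    · apply Subtype.ext
      rw [Subgroup.coe_pow, ha, p1]; rfl
    · apply Subtype.ext
      rw [Subgroup.coe_pow, ha, p2]; rfl
    · apply Subtype.ext
      rw [Subgroup.coe_pow, ha, p3]; rfl
    · apply Subtype.ext
      rw [Subgroup.coe_pow, ha, p4]; rfl

theorem core_of_le_HK (N : Subgroup (G h)) [hN : N.Normal] (hle : N ≤ HK h) :
    ∀ n ∈ N, (n : GL F9 F) = 1 ∨ (n : GL F9 F) = Eg h 4981 ∨ (n : GL F9 F) = Eg h 5102 := by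
  intro n hn
  refine core h (N.map (G h).subtype) ?_ ?_ n.1 (Subgroup.mem_map_of_mem _ hn)
  · rintro _ ⟨m, hm, rfl⟩
    exact Subgroup.mem_subgroupOf.mp (hle hm)
  · rintro _ ⟨m, hm, rfl⟩ g hg
    refine ⟨(⟨g, hg⟩ : G h)⁻¹ * m * ⟨g, hg⟩, ?_, rfl⟩
    have := hN.conj_mem m hm (⟨g, hg⟩ : G h)⁻¹
    rwa [inv_inv] at this

theorem mem_center_of_core (z : G h)
    (hz : (z : GL F9 F) = 1 ∨ (z : GL F9 F) = Eg h 4981 ∨ (z : GL F9 F) = Eg h 5102) :
    z ∈ Subgroup.center (G h) := by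
  rw [Subgroup.mem_center_iff]
  intro g
  apply Subtype.ext
  exact comm_core h z.1 hz g.1

theorem dich (N : Subgroup (G h)) (hN : N.Normal) : N ≤ Subgroup.center (G h) ∨ N = ⊤ := by
  have := hN
  rcases dich_aux h N with h1 | h17 | h19
  · left
    intro n hn
    exact mem_center_of_core h n (core_of_le_HK h N h1 n hn)
  · right; exact top_of_17 h N h17
  · right; exact top_of_19 h N h19

theorem center_ne_top : Subgroup.center (G h) ≠ ⊤ := by
  intro e
  have h1 : (⟨gX h, gX_mem h⟩ : G h) ∈ Subgroup.center (G h) := by rw [e]; trivial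
  rw [Subgroup.mem_center_iff] at h1
  have h2 := congrArg Subtype.val (h1 ⟨gX' h, gX'_mem h⟩)
  exact gX_noncomm h h2.symm

theorem center_le_HK : Subgroup.center (G h) ≤ HK h := by
  rcases dich_aux h (Subgroup.center (G h)) with h1 | h17 | h19
  · exact h1
  · exact absurd (top_of_17 h _ h17) (center_ne_top h)
  · exact absurd (top_of_19 h _ h19) (center_ne_top h)

theorem center_set : (Subgroup.center (G h) : Set (G h)) =
    {1, ⟨Eg h 4981, H'_le h (Eg_mem h _)⟩, ⟨Eg h 5102, H'_le h (Eg_mem h _)⟩} := by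
  ext z
  simp only [SetLike.mem_coe, Set.mem_insert_iff, Set.mem_singleton_iff]
  constructor
  · intro hz
    rcases core_of_le_HK h _ (center_le_HK h) z hz with h1 | h1 | h1
    · left; exact Subtype.ext h1
    · right; left; exact Subtype.ext h1
    · right; right; exact Subtype.ext h1
  · rintro (rfl | rfl | rfl)
    · exact one_mem _
    · exact mem_center_of_core h _ (Or.inr (Or.inl rfl))
    · exact mem_center_of_core h _ (Or.inr (Or.inr rfl))

theorem center_card : Nat.card (Subgroup.center (G h)) = 3 := by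
  have h0 : Nat.card (Subgroup.center (G h)) = (Subgroup.center (G h) : Set (G h)).ncard :=
    Nat.card_coe_set_eq _
  rw [h0, center_set, Set.ncard_eq_three]
  refine ⟨_, _, _, ?_, ?_, ?_, rfl⟩
  · intro e
    have e1 : (1 : GL F9 F) = Eg h 4981 := congrArg Subtype.val e
    rw [← Eg_eid h] at e1
    exact absurd (Eg_inj h _ _ (by norm_num) (by norm_num) e1) (by norm_num)
  · intro e
    have e1 : (1 : GL F9 F) = Eg h 5102 := congrArg Subtype.val e
    rw [← Eg_eid h] at e1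
    exact absurd (Eg_inj h _ _ (by norm_num) (by norm_num) e1) (by norm_num)
  · intro e
    have e1 : Eg h 4981 = Eg h 5102 := congrArg Subtype.val e
    exact absurd (Eg_inj h _ _ (by norm_num) (by norm_num) e1) (by norm_num)

/-- the order, the centre and the simplicity of the central quotient -/
theorem main (K : Subgroup (GL F9 F)) (hK : K = G h) :
    Nat.card (Subgroup.center K) = 3 ∧ Nat.card K = 150698880 ∧
      Nat.card (K ⧸ Subgroup.center K) = 50232960 ∧ IsSimpleGroup (K ⧸ Subgroup.center K) := by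
  subst hK
  refine ⟨center_card h, G_card h, ?_, isSimpleGroup_quotient_center (dich h) (center_ne_top h)⟩
  have := Subgroup.card_eq_card_quotient_mul_card_subgroup (Subgroup.center (G h))
  rw [G_card, center_card] at this
  omega

end

end Cfsg.Agent.H10.J3
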