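import Mathlib
import Cfsg.Agent.H17.MnDefs

/-!
# S5634-KER: a tame group over the monomial group has no non-trivial element fixing all rows but
one (helper10, piece for helper17)
-/

set_option autoImplicit false

namespace Cfsg.Agent.H10.Mn

open Cfsg Cfsg.Geo Cfsg.Agent.H17.Mn
open scoped MatrixGroups Matrix

variable {ι : Type} [Fintype ι] [DecidableEq ι] {F : Type*} [Field F]

/-- the matrix with row `i` equal to `α` and zero elsewhere -/
def rowM (i : ι) (α : ι → F) : Matrix ι ι F := Matrix.of fun r l => if r = i then α l else 0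

theorem rowM_apply (i : ι) (α : ι → F) (r l : ι) : rowM i α r l = if r = i then α l else 0 := rfl

theorem rowM_mul_rowM (i : ι) (α β : ι → F) (h : α i = 0) : rowM i α * rowM i β = 0 := by
  ext r l
  rw [Matrix.mul_apply, Matrix.zero_apply]
  apply Finset.sum_eq_zero
  intro k _
  rw [rowM_apply, rowM_apply]
  by_cases hk : k = i
  · rw [hk, h]
    simp
  · rw [if_neg hk, mul_zero]

theorem rowM_add (i : ι) (α β : ι → F) : rowM i α + rowM i β = rowM i (α + β) := by
  ext r l
  rw [Matrix.add_apply, rowM_apply, rowM_apply, rowM_apply]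
  by_cases hr : r = i
  · rw [if_pos hr, if_pos hr, if_pos hr]
    rfl
  · rw [if_neg hr, if_neg hr, if_neg hr, add_zero]

/-- the shear `1 + e_i αᵀ` -/
def sh (i : ι) (α : ι → F) : Matrix ι ι F := 1 + rowM i α

theorem sh_apply (i : ι) (α : ι → F) (r l : ι) :
    sh i α r l = (1 : Matrix ι ι F) r l + if r = i then α l else 0 := rfl

theorem sh_mul (i : ι) (α β : ι → F) (h : α i = 0) : sh i α * sh i β = sh i (α + β) := by
  unfold sh
  rw [add_mul, mul_add, mul_add, one_mul, one_mul, mul_one, rowM_mul_rowM i α β h, add_zero,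
    ← rowM_add]
  abel

theorem sh_zero (i : ι) : sh i (0 : ι → F) = 1 := by
  ext r l
  rw [sh_apply]
  simp

theorem diag_sh (i : ι) (α : ι → F) (d e : ι → F) (hde : ∀ l, d l * e l = 1) :
    Matrix.diagonal d * sh i α * Matrix.diagonal e = sh i (fun l => d i * α l * e l) := by
  ext r l
  rw [Matrix.mul_diagonal, Matrix.diagonal_mul, sh_apply, sh_apply]
  by_cases hr : r = i
  · rw [if_pos hr, if_pos hr]
    by_cases hrl : r = l
    · rw [hrl, Matrix.one_apply_eq]
      rw [hrl] at hr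
      rw [hr]
      linear_combination hde i
    · rw [Matrix.one_apply_ne hrl, hr]
      ring
  · rw [if_neg hr, if_neg hr, add_zero]
    by_cases hrl : r = l
    · rw [hrl, Matrix.one_apply_eq]
      linear_combination hde l
    · rw [Matrix.one_apply_ne hrl]
      ring

/-- a diagonal matrix of determinant one as an element of the monomial group -/
theorem diag_gl (d : ι → F) (hd : ∀ l, d l ≠ 0) (hprod : ∏ l, d l = 1) :
    ∃ g : GL ι F, (g : Matrix ι ι F) = Matrix.diagonal d ∧
      ((g⁻¹ : GL ι F) : Matrix ι ι F) = Matrix.diagonal (fun l => (d l)⁻¹) ∧ g ∈ monoS ι F := by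
  have h1 : Matrix.diagonal d * Matrix.diagonal (fun l => (d l)⁻¹) = 1 := by
    rw [Matrix.diagonal_mul_diagonal]
    have : (fun l => d l * (d l)⁻¹) = fun _ => (1 : F) := funext fun l => mul_inv_cancel₀ (hd l)
    rw [this, Matrix.diagonal_one]
  have h2 : Matrix.diagonal (fun l => (d l)⁻¹) * Matrix.diagonal d = 1 := by
    rw [Matrix.diagonal_mul_diagonal]
    have : (fun l => (d l)⁻¹ * d l) = fun _ => (1 : F) := funext fun l => inv_mul_cancel₀ (hd l)
    rw [this, Matrix.diagonal_one]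
  have hmon : ∀ e : ι → F, IsMon (Matrix.diagonal e) := by
    intro e j a b ha hb
    have ha' : a = j := by
      by_contra h
      exact ha (Matrix.diagonal_apply_ne _ h)
    have hb' : b = j := by
      by_contra h
      exact hb (Matrix.diagonal_apply_ne _ h)
    rw [ha', hb']
  refine ⟨⟨Matrix.diagonal d, Matrix.diagonal (fun l => (d l)⁻¹), h1, h2⟩, rfl, rfl, ?_⟩
  rw [mem_monoS_iff, mem_mono_iff, Cfsg.Agent.H95.mem_specialLinear_iff]
  exact ⟨⟨hmon _, hmon _⟩, by rw [Matrix.det_diagonal]; exact hprod⟩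

theorem exists_not_mem_of_card_lt [Fintype F] (S : Finset F) (h : S.card < Fintype.card F) :
    ∃ x, x ∉ S := by
  by_contra hall
  push Not at hall
  have h1 : Finset.univ ⊆ S := fun x _ => hall x
  have h2 := Finset.card_le_card h1
  rw [Finset.card_univ] at h2
  omega

/-- conjugating a shear by a diagonal element and dividing by the shear -/
theorem comm_sh (M : Subgroup (GL ι F)) (w t : GL ι F) (hw : w ∈ M) (ht : t ∈ M) (i : ι)
    (ψ d : ι → F) (hd : ∀ l, d l ≠ 0) (hψ : ψ i = 0) (hwm : (w : Matrix ι ι F) = sh i ψ)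
    (htm : (t : Matrix ι ι F) = Matrix.diagonal d)
    (htm' : ((t⁻¹ : GL ι F) : Matrix ι ι F) = Matrix.diagonal (fun l => (d l)⁻¹)) :
    ∃ w' ∈ M, (w' : Matrix ι ι F) = sh i (fun l => -ψ l + d i * ψ l * (d l)⁻¹) := by
  refine ⟨w⁻¹ * (t * w * t⁻¹), M.mul_mem (M.inv_mem hw) (M.mul_mem (M.mul_mem ht hw)
    (M.inv_mem ht)), ?_⟩
  have hinv : ((w⁻¹ : GL ι F) : Matrix ι ι F) = sh i (-ψ) := by
    apply Units.inv_eq_of_mul_eq_one_right
    rw [hwm, sh_mul i ψ (-ψ) hψ, add_neg_cancel, sh_zero]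
  rw [Units.val_mul, Units.val_mul, Units.val_mul, hinv, hwm, htm, htm',
    diag_sh i ψ d (fun l => (d l)⁻¹) (fun l => mul_inv_cancel₀ (hd l)),
    sh_mul i (-ψ) _ (by rw [Pi.neg_apply, hψ, neg_zero])]
  rfl

theorem kernel_trivial [Fintype F] (hι : 3 ≤ Fintype.card ι) (hq : 5 ≤ Fintype.card F)
    (M : Subgroup (GL ι F)) (hM : monoS ι F ≤ M) (htame : ∀ g ∈ M, ¬ IsElemTv g) (u : GL ι F)
    (hu : u ∈ M) (i : ι) (hrow : ∀ r l, r ≠ i → (u : Matrix ι ι F) r l = (1 : Matrix ι ι F) r l)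
    (hii : (u : Matrix ι ι F) i i = 1) : u = 1 := by
  classical
  let φ : ι → F := fun l => if l = i then 0 else (u : Matrix ι ι F) i l
  have hφi : φ i = 0 := if_pos rfl
  have hφne : ∀ l, l ≠ i → φ l = (u : Matrix ι ι F) i l := fun l hl => if_neg hl
  have hu_sh : (u : Matrix ι ι F) = sh i φ := by
    ext r l
    rw [sh_apply]
    by_cases hr : r = i
    · rw [if_pos hr, hr]
      by_cases hl : l = i
      · rw [hl, hii, Matrix.one_apply_eq, hφi, add_zero]
      · rw [Matrix.one_apply_ne (Ne.symm hl), zero_add, hφne l hl]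
    · rw [if_neg hr, add_zero]
      exact hrow r l hr
  by_contra hne
  have hex : ∃ j0, φ j0 ≠ 0 := by
    by_contra hall
    push Not at hall
    apply hne
    apply Units.ext
    rw [hu_sh, Units.val_one]
    have : φ = 0 := funext hall
    rw [this, sh_zero]
  obtain ⟨j0, hj0⟩ := hex
  have hj0i : j0 ≠ i := by
    intro h
    rw [h] at hj0
    exact hj0 hφi
  obtain ⟨j1, hj1i, hj1j0⟩ : ∃ j1, j1 ≠ i ∧ j1 ≠ j0 := by
    by_contra hall
    push Not at hall
    have hsub : (Finset.univ : Finset ι) ⊆ {i, j0} := by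
      intro x _
      by_cases hx : x = i
      · simp [hx]
      · simp [hall x hx]
    have h2 : Fintype.card ι ≤ 2 := by
      calc Fintype.card ι = (Finset.univ : Finset ι).card := Finset.card_univ.symm
        _ ≤ ({i, j0} : Finset ι).card := Finset.card_le_card hsub
        _ ≤ 2 := Finset.card_le_two
    omega
  obtain ⟨a, ha⟩ := exists_not_mem_of_card_lt ({0, 1} : Finset F)
    (lt_of_le_of_lt Finset.card_le_two (by omega))
  have ha0 : a ≠ 0 := fun h => ha (by simp [h])
  have ha1 : a ≠ 1 := fun h => ha (by simp [h])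
  obtain ⟨c, hc⟩ := exists_not_mem_of_card_lt (insert 0 (Polynomial.nthRoots 3 (1 : F)).toFinset)
    (by
      have h1 := Finset.card_insert_le (0 : F) (Polynomial.nthRoots 3 (1 : F)).toFinset
      have h2 := Multiset.toFinset_card_le (Polynomial.nthRoots 3 (1 : F))
      have h3 := Polynomial.card_nthRoots 3 (1 : F)
      omega)
  have hc0 : c ≠ 0 := fun h => hc (by simp [h])
  have hc3 : c ^ 3 ≠ 1 := by
    intro h
    apply hc
    rw [Finset.mem_insert, Multiset.mem_toFinset, Polynomial.mem_nthRoots (by norm_num)]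
    exact Or.inr h
  -- the first diagonal element
  let d : ι → F := fun l => if l = j0 then a else if l = j1 then a⁻¹ else 1
  have hd : ∀ l, d l ≠ 0 := by
    intro l
    show (if l = j0 then a else if l = j1 then a⁻¹ else 1) ≠ 0
    split_ifs
    · exact ha0
    · exact inv_ne_zero ha0
    · exact one_ne_zero
  have hdj0 : d j0 = a := if_pos rfl
  have hdj1 : d j1 = a⁻¹ := by
    show (if j1 = j0 then a else if j1 = j1 then a⁻¹ else 1) = a⁻¹
    rw [if_neg hj1j0, if_pos rfl]
  have hdo : ∀ l, l ≠ j0 → l ≠ j1 → d l = 1 := by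
    intro l h0 h1
    show (if l = j0 then a else if l = j1 then a⁻¹ else 1) = 1
    rw [if_neg h0, if_neg h1]
  have hprod : ∏ l, d l = 1 := by
    rw [Finset.prod_eq_mul j0 j1 (Ne.symm hj1j0) (fun l _ hl => hdo l hl.1 hl.2)
      (fun h => absurd (Finset.mem_univ _) h) (fun h => absurd (Finset.mem_univ _) h), hdj0, hdj1,
      mul_inv_cancel₀ ha0]
  obtain ⟨t, htm, htm', htM⟩ := diag_gl d hd hprod
  obtain ⟨w1, hw1M, hw1⟩ := comm_sh M u t hu (hM htM) i φ d hd hφi hu_sh htm htm'
  let ψ : ι → F := fun l => -φ l + d i * φ l * (d l)⁻¹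
  have hdi : d i = 1 := hdo i (Ne.symm hj0i) (Ne.symm hj1i)
  have hψi : ψ i = 0 := by
    show -φ i + d i * φ i * (d i)⁻¹ = 0
    rw [hφi]
    ring
  have hψj0 : ψ j0 ≠ 0 := by
    show -φ j0 + d i * φ j0 * (d j0)⁻¹ ≠ 0
    rw [hdi, hdj0]
    intro h
    have h2 : φ j0 * (1 - a) = 0 := by
      have h4 : φ j0 * (1 - a) = (-φ j0 + 1 * φ j0 * a⁻¹) * a := by
        rw [add_mul, mul_assoc (1 * φ j0), inv_mul_cancel₀ ha0]
        ring
      rw [h4, h, zero_mul]
    rcases mul_eq_zero.mp h2 with h3 | h3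
    · exact hj0 h3
    · exact ha1 (by linear_combination -h3)
  have hψo : ∀ l, l ≠ j0 → l ≠ j1 → ψ l = 0 := by
    intro l h0 h1
    show -φ l + d i * φ l * (d l)⁻¹ = 0
    rw [hdi, hdo l h0 h1]
    ring
  -- the second diagonal element
  let d1 : ι → F := fun l => if l = i then c else if l = j0 then c⁻¹ else 1
  let d2 : ι → F := fun l => if l = j0 then c⁻¹ else if l = j1 then c else 1
  have hd1i : d1 i = c := if_pos rfl
  have hd1j0 : d1 j0 = c⁻¹ := by
    show (if j0 = i then c else if j0 = j0 then c⁻¹ else 1) = c⁻¹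
    rw [if_neg hj0i, if_pos rfl]
  have hd1o : ∀ l, l ≠ i → l ≠ j0 → d1 l = 1 := by
    intro l h0 h1
    show (if l = i then c else if l = j0 then c⁻¹ else 1) = 1
    rw [if_neg h0, if_neg h1]
  have hd2j0 : d2 j0 = c⁻¹ := if_pos rfl
  have hd2j1 : d2 j1 = c := by
    show (if j1 = j0 then c⁻¹ else if j1 = j1 then c else 1) = c
    rw [if_neg hj1j0, if_pos rfl]
  have hd2o : ∀ l, l ≠ j0 → l ≠ j1 → d2 l = 1 := by
    intro l h0 h1
    show (if l = j0 then c⁻¹ else if l = j1 then c else 1) = 1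
    rw [if_neg h0, if_neg h1]
  let d' : ι → F := fun l => d1 l * d2 l
  have hd1 : ∀ l, d1 l ≠ 0 := by
    intro l
    show (if l = i then c else if l = j0 then c⁻¹ else 1) ≠ 0
    split_ifs
    · exact hc0
    · exact inv_ne_zero hc0
    · exact one_ne_zero
  have hd2 : ∀ l, d2 l ≠ 0 := by
    intro l
    show (if l = j0 then c⁻¹ else if l = j1 then c else 1) ≠ 0
    split_ifs
    · exact inv_ne_zero hc0
    · exact hc0
    · exact one_ne_zero
  have hd' : ∀ l, d' l ≠ 0 := fun l => mul_ne_zero (hd1 l) (hd2 l)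
  have hprod' : ∏ l, d' l = 1 := by
    show ∏ l, d1 l * d2 l = 1
    rw [Finset.prod_mul_distrib,
      Finset.prod_eq_mul i j0 (Ne.symm hj0i) (fun l _ hl => hd1o l hl.1 hl.2)
        (fun h => absurd (Finset.mem_univ _) h) (fun h => absurd (Finset.mem_univ _) h),
      Finset.prod_eq_mul j0 j1 (Ne.symm hj1j0) (fun l _ hl => hd2o l hl.1 hl.2)
        (fun h => absurd (Finset.mem_univ _) h) (fun h => absurd (Finset.mem_univ _) h),
      hd1i, hd1j0, hd2j0, hd2j1, mul_inv_cancel₀ hc0, inv_mul_cancel₀ hc0, mul_one]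
  obtain ⟨t', htm2, htm2', htM2⟩ := diag_gl d' hd' hprod'
  obtain ⟨w2, hw2M, hw2⟩ := comm_sh M w1 t' hw1M (hM htM2) i ψ d' hd' hψi hw1 htm2 htm2'
  have hd'i : d' i = c := by
    show d1 i * d2 i = c
    rw [hd1i, hd2o i (Ne.symm hj0i) (Ne.symm hj1i), mul_one]
  have hd'j0 : d' j0 = c⁻¹ * c⁻¹ := by
    show d1 j0 * d2 j0 = _
    rw [hd1j0, hd2j0]
  have hd'j1 : d' j1 = c := by
    show d1 j1 * d2 j1 = c
    rw [hd1o j1 hj1i hj1j0, hd2j1, one_mul]
  -- the result is an elementary transvection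
  apply htame w2 hw2M
  refine ⟨i, j0, Ne.symm hj0i, (c ^ 3 - 1) * ψ j0, mul_ne_zero (sub_ne_zero.mpr hc3) hψj0, ?_⟩
  rw [hw2]
  ext r l
  rw [sh_apply, Matrix.transvection, Matrix.add_apply, Matrix.single_apply]
  congr 1
  by_cases hr : r = i
  · rw [if_pos hr]
    by_cases hl : l = j0
    · rw [if_pos ⟨hr.symm, hl.symm⟩, hl, hd'i, hd'j0]
      field_simp
      ring
    · rw [if_neg (fun h => hl h.2.symm)]
      by_cases hl1 : l = j1
      · rw [hl1, hd'i, hd'j1]
        field_simp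
        ring
      · rw [hψo l hl hl1]
        ring
  · rw [if_neg hr, if_neg (fun h => hr h.1.symm)]

end Cfsg.Agent.H10.Mn

section Check

open Cfsg Cfsg.Geo Cfsg.Agent.H17.Mn
open scoped MatrixGroups Matrix

variable {ι : Type} [Fintype ι] [DecidableEq ι] {F : Type*} [Field F]

/-- the posted statement of S5634-KER, verbatim -/
example [Fintype F] (hι : 3 ≤ Fintype.card ι) (hq : 5 ≤ Fintype.card F) (M : Subgroup (GL ι F)) (hM : monoS ι F ≤ M) (htame : ∀ g ∈ M, ¬ IsElemTv g) (u : GL ι F) (hu : u ∈ M) (i : ι) (hrow : ∀ r l, r ≠ i → (u : Matrix ι ι F) r l = (1 : Matrix ι ι F) r l) (hii : (u : Matrix ι ι F) i i = 1) : u = 1 :=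
  Cfsg.Agent.H10.Mn.kernel_trivial hι hq M hM htame u hu i hrow hii

end Check
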