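import Mathlib
import Cfsg.Agent.H10.SharpSimple

set_option autoImplicit false

namespace Cfsg.Agent.H10

open MulAction

section PermSimple

variable {G : Type*} [Group G] {α : Type*} [MulAction G α]

theorem toPermHom_injective_of_faithful (hfaith : ∀ g : G, g ≠ 1 → ∃ a : α, g • a ≠ a) :
    Function.Injective (MulAction.toPermHom G α) := by
  rw [injective_iff_map_eq_one]
  intro g hg
  by_contra hne
  obtain ⟨a, ha⟩ := hfaith g hne
  apply ha
  have := congrArg (fun σ : Equiv.Perm α => σ a) hg
  simpa using this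

/-- The centralizer of an element `x` of prime order `p` with `f` fixed points, in a faithful
action on a finite set: the degree is `f + p * k` and the centralizer has order dividing
`f! * p ^ k * k!`. -/
theorem card_centralizer_dvd_of_prime [Fintype α] [DecidableEq α]
    (hfaith : ∀ g : G, g ≠ 1 → ∃ a : α, g • a ≠ a) {x : G} {p : ℕ} (hp : p.Prime)
    (hx : orderOf x = p) :
    ∃ k, Fintype.card α = (Finset.univ.filter (fun a : α => x • a = a)).card + p * k ∧
      Nat.card (Subgroup.centralizer ({x} : Set G)) ∣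
        ((Finset.univ.filter (fun a : α => x • a = a)).card).factorial * p ^ k * k.factorial := by
  classical
  have hinj := toPermHom_injective_of_faithful hfaith
  set f := (Finset.univ.filter (fun a : α => x • a = a)).card with hf
  set σ := MulAction.toPermHom G α x with hσ
  have hord : orderOf σ = p := by rw [hσ, orderOf_injective _ hinj, hx]
  obtain ⟨n, hn⟩ := Equiv.Perm.cycleType_prime_order (σ := σ) (by rw [hord]; exact hp)
  rw [hord] at hn
  have hfle : f ≤ Fintype.card α := by
    rw [hf, ← Finset.card_univ]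
    exact Finset.card_le_card (Finset.filter_subset _ _)
  have hsupp : σ.cycleType.sum = Fintype.card α - f := by
    rw [Equiv.Perm.sum_cycleType]
    have : σ.support = Finset.univ.filter (fun a : α => ¬ x • a = a) := by
      ext a
      simp [Equiv.Perm.mem_support, hσ]
    rw [this, Finset.filter_not, Finset.card_sdiff_of_subset (Finset.filter_subset _ _),
      Finset.card_univ]
  have hcard : Fintype.card α = f + p * (n + 1) := by
    rw [hn, Multiset.sum_replicate, smul_eq_mul] at hsupp
    rw [mul_comm]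
    omega
  refine ⟨n + 1, hcard, ?_⟩
  have hcent := Equiv.Perm.nat_card_centralizer σ
  have htf : (Multiset.replicate (n + 1) p).toFinset = {p} := by
    rw [Multiset.toFinset_replicate, if_neg (Nat.succ_ne_zero n)]
  rw [hn, htf, Finset.prod_singleton, Multiset.count_replicate_self, Multiset.sum_replicate,
    Multiset.prod_replicate, smul_eq_mul, hcard] at hcent
  have hsub : f + p * (n + 1) - (n + 1) * p = f := by
    rw [mul_comm (n + 1) p]
    omega
  rw [hsub] at hcent
  have hle : (Subgroup.centralizer ({x} : Set G)).map (MulAction.toPermHom G α) ≤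
      Subgroup.centralizer ({σ} : Set (Equiv.Perm α)) := by
    rintro _ ⟨c, hc, rfl⟩
    rw [SetLike.mem_coe, Subgroup.mem_centralizer_iff] at hc
    rw [Subgroup.mem_centralizer_iff]
    intro τ hτ
    rw [Set.mem_singleton_iff] at hτ
    rw [hτ, hσ, ← map_mul, ← map_mul, hc x rfl]
  have h1 := Subgroup.card_dvd_of_le hle
  rwa [Subgroup.card_map_of_injective hinj, hcent] at h1

/-- `N/C` for a subgroup of prime order. -/
theorem card_normalizer_of_prime_card [Finite G] {p : ℕ} (hp : p.Prime) (Q : Subgroup G)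
    (hQ : Nat.card Q = p) :
    ∃ r, r ∣ p - 1 ∧ Nat.card (Subgroup.normalizer (Q : Set G)) =
      r * Nat.card (Subgroup.centralizer (Q : Set G)) := by
  haveI : Fact p.Prime := ⟨hp⟩
  haveI : IsCyclic Q := isCyclic_of_prime_card hQ
  have key := Subgroup.card_dvd_of_injective _
    (QuotientGroup.kerLift_injective Q.normalizerMonoidHom)
  rw [Subgroup.normalizerMonoidHom_ker, ← Subgroup.index, ← Subgroup.relIndex,
    IsCyclic.card_mulAut, hQ, Nat.totient_prime hp] at key
  refine ⟨_, key, ?_⟩
  have h1 := Subgroup.card_mul_index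
    ((Subgroup.centralizer (Q : Set G)).subgroupOf (Subgroup.normalizer (Q : Set G)))
  rw [Nat.card_congr (Subgroup.subgroupOfEquivOfLe
    (Subgroup.centralizer_le_normalizer (Q : Set G))).toEquiv] at h1
  rw [← h1, mul_comm]
  rfl

/-- A nontrivial element of a subgroup of prime order has that order and the same centralizer. -/
theorem centralizer_eq_of_prime_card {p : ℕ} (hp : p.Prime) (Q : Subgroup G)
    (hQ : Nat.card Q = p) {x : G} (hxQ : x ∈ Q) (hx1 : x ≠ 1) :
    orderOf x = p ∧ Subgroup.centralizer (Q : Set G) = Subgroup.centralizer ({x} : Set G) := by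
  haveI : Fact p.Prime := ⟨hp⟩
  haveI : Finite Q := Nat.finite_of_card_ne_zero (by rw [hQ]; exact hp.ne_zero)
  have hle : Subgroup.zpowers x ≤ Q := by rwa [Subgroup.zpowers_le]
  have hdvd : Nat.card (Subgroup.zpowers x) ∣ Nat.card Q := Subgroup.card_dvd_of_le hle
  rw [hQ, Nat.card_zpowers] at hdvd
  have hord : orderOf x = p := by
    rcases (Nat.dvd_prime hp).1 hdvd with h | h
    · exact absurd (orderOf_eq_one_iff.1 h) hx1
    · exact h
  have hz : Subgroup.zpowers x = Q := by
    apply Subgroup.eq_of_le_of_card_ge hle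
    rw [hQ, Nat.card_zpowers, hord]
  refine ⟨hord, le_antisymm ?_ ?_⟩
  · exact Subgroup.centralizer_le (by simpa using hxQ)
  · intro c hc
    rw [Subgroup.mem_centralizer_iff] at hc ⊢
    intro q hq
    rw [SetLike.mem_coe, ← hz, Subgroup.mem_zpowers_iff] at hq
    obtain ⟨k, rfl⟩ := hq
    have h1 : Commute x c := hc x rfl
    exact (h1.zpow_left k).eq

/-- Sylow + Frattini for a prime exactly dividing the group order: a normal subgroup `N` of order
divisible by `p` contains a subgroup `Q` of order `p` with `|N_G(Q)| * n = |G|`, `n ≡ 1 mod p`,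
and the index of `N` divides `|N_G(Q)|`. -/
theorem sylow_frattini [Finite G] {p : ℕ} (hp : p.Prime) (hpG : p ∣ Nat.card G)
    (hp2 : ¬ p * p ∣ Nat.card G) (N : Subgroup G) [N.Normal] (hpN : p ∣ Nat.card N) :
    ∃ Q : Subgroup G, Nat.card Q = p ∧ Q ≤ N ∧ ∃ n,
      Nat.card (Subgroup.normalizer (Q : Set G)) * n = Nat.card G ∧ n % p = 1 ∧
      N.index ∣ Nat.card (Subgroup.normalizer (Q : Set G)) ∧ ¬ p ∣ N.index := by
  haveI : Fact p.Prime := ⟨hp⟩
  obtain ⟨P⟩ : Nonempty (Sylow p N) := inferInstance
  have hP : Nat.card (P : Subgroup N) = p :=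
    Cfsg.Agent.H11.sylow_card_eq_prime p hpN
      (fun h => hp2 (h.trans (Subgroup.card_subgroup_dvd_card N))) P
  have hfrat := Sylow.normalizer_sup_eq_top P
  have hP0card : Nat.card ((P : Subgroup N).map N.subtype) = p := by
    rw [Subgroup.card_map_of_injective N.subtype_injective]
    exact hP
  obtain ⟨S, hS⟩ := (IsPGroup.of_card (n := 1) (by rw [hP0card, pow_one]) :
    IsPGroup p ((P : Subgroup N).map N.subtype)).exists_le_sylow
  have hScard : Nat.card (S : Subgroup G) = p :=
    Cfsg.Agent.H11.sylow_card_eq_prime p hpG hp2 S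
  have hPS : (P : Subgroup N).map N.subtype = (S : Subgroup G) :=
    Subgroup.eq_of_le_of_card_ge hS (by rw [hScard, hP0card])
  have hsyl := Cfsg.Agent.H11.card_normalizer_mul_card_sylow p S
  have hmod : Nat.card (Sylow p G) % p = 1 := by
    have := card_sylow_modEq_one p G
    unfold Nat.ModEq at this
    rw [this]
    exact Nat.mod_eq_of_lt hp.one_lt
  refine ⟨(P : Subgroup N).map N.subtype, hP0card, Subgroup.map_subtype_le _,
    Nat.card (Sylow p G), by rw [hPS]; exact hsyl, hmod, ?_, ?_⟩
  · have h1 : N.relIndex (Subgroup.normalizer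
        (((P : Subgroup N).map N.subtype : Subgroup G) : Set G) ⊔ N) =
        N.relIndex (Subgroup.normalizer (((P : Subgroup N).map N.subtype : Subgroup G) : Set G)) :=
      Subgroup.relIndex_sup_right _ _
    rw [hfrat, Subgroup.relIndex_top_right] at h1
    rw [h1]
    exact Subgroup.relIndex_dvd_card N _
  · intro hidx
    apply hp2
    have := Subgroup.card_mul_index N
    rw [← this]
    exact Nat.mul_dvd_mul hpN hidx

/-- Orbit-stabiliser for a subgroup `H` of an acting group. -/
theorem card_eq_ncard_orbit_mul_card_inf (H : Subgroup G) (a : α) :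
    Nat.card H = (MulAction.orbit H a).ncard * Nat.card ↥(H ⊓ MulAction.stabilizer G a) := by
  have h1 : Nat.card H
      = Nat.card (MulAction.orbit H a) * Nat.card (MulAction.stabilizer H a) := by
    rw [← Nat.card_prod]
    exact Nat.card_congr (MulAction.orbitProdStabilizerEquivGroup H a).symm
  have h3 : (MulAction.stabilizer H a).map H.subtype = H ⊓ MulAction.stabilizer G a := by
    ext g
    rw [Subgroup.mem_map, Subgroup.mem_inf]
    constructor
    · rintro ⟨h, hh, rfl⟩
      exact ⟨h.2, hh⟩
    · rintro ⟨hg, hg'⟩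
      exact ⟨⟨g, hg⟩, hg', rfl⟩
  have h4 : Nat.card (MulAction.stabilizer H a) = Nat.card ↥(H ⊓ MulAction.stabilizer G a) := by
    rw [← h3]
    exact Nat.card_congr
      ((MulAction.stabilizer H a).equivMapOfInjective H.subtype H.subtype_injective).toEquiv
  rw [h1, h4, Nat.card_coe_set_eq]

/-- A faithful `2`-transitive group with a simple point stabiliser and no regular normal subgroup
is simple. -/
theorem simple_of_stabilizer_simple [Nontrivial G] (h2 : IsMultiplyPretransitive G α 2)
    (hfaith : ∀ g : G, g ≠ 1 → ∃ a : α, g • a ≠ a) (a : α)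
    (hs : IsSimpleGroup (stabilizer G a))
    (hreg : ∀ N : Subgroup G, N.Normal → (∀ b c : α, ∃ n ∈ N, n • b = c) →
      (∀ n ∈ N, n • a = a → n = 1) → False) : IsSimpleGroup G := by
  refine ⟨fun N hN => ?_⟩
  rw [or_iff_not_imp_left]
  intro hNbot
  obtain ⟨n, hnN, hn1⟩ : ∃ n ∈ N, n ≠ 1 := by
    by_contra h
    push Not at h
    exact hNbot ((Subgroup.eq_bot_iff_forall N).2 h)
  obtain ⟨b₀, hb₀⟩ := hfaith n hn1
  have htrans : ∀ b c : α, ∃ m ∈ N, m • b = c := normal_exists_smul_eq h2 N hnN hb₀
  have hnormal : (N.subgroupOf (stabilizer G a)).Normal := inferInstance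
  rcases hs.eq_bot_or_eq_top_of_normal _ hnormal with hbot | htop
  · exfalso
    apply hreg N hN htrans
    intro m hm hma
    have : (⟨m, mem_stabilizer_iff.2 hma⟩ : stabilizer G a) ∈ N.subgroupOf (stabilizer G a) :=
      Subgroup.mem_subgroupOf.2 hm
    rw [hbot, Subgroup.mem_bot] at this
    exact congrArg Subtype.val this
  · have hHN : stabilizer G a ≤ N := Subgroup.subgroupOf_eq_top.1 htop
    rw [eq_top_iff]
    intro g _
    obtain ⟨m, hm, hma⟩ := htrans a (g • a)
    have hmem : m⁻¹ * g ∈ stabilizer G a := by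
      rw [mem_stabilizer_iff, mul_smul, ← hma, inv_smul_smul]
    have := N.mul_mem hm (hHN hmem)
    rwa [mul_inv_cancel_left] at this

/-- A `2`-transitive group whose degree is divisible by two distinct primes has no regular normal
subgroup. -/
theorem no_regular_normal_of_two_primes [Finite α] (h2 : IsMultiplyPretransitive G α 2) (a : α)
    {p q : ℕ} (hp : p.Prime) (hq : q.Prime) (hpq : p ≠ q) (hpα : p ∣ Nat.card α)
    (hqα : q ∣ Nat.card α) (N : Subgroup G) (hN : N.Normal)
    (htrans : ∀ b c : α, ∃ n ∈ N, n • b = c) (hreg : ∀ n ∈ N, n • a = a → n = 1) : False := by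
  have hconj : ∀ n₁ ∈ N, n₁ ≠ 1 → ∀ n₂ ∈ N, n₂ ≠ 1 → orderOf n₁ = orderOf n₂ := by
    intro n₁ h₁N h₁ n₂ h₂N h₂
    have h₁a : n₁ • a ≠ a := fun h => h₁ (hreg n₁ h₁N h)
    have h₂a : n₂ • a ≠ a := fun h => h₂ (hreg n₂ h₂N h)
    obtain ⟨g, hga, hg⟩ := (is_two_pretransitive_iff.1 h2) (Ne.symm h₁a) (Ne.symm h₂a)
    have hc : g * n₁ * g⁻¹ = n₂ := by
      have hmem : n₂⁻¹ * (g * n₁ * g⁻¹) ∈ N :=
        N.mul_mem (N.inv_mem h₂N) (hN.conj_mem n₁ h₁N g)
      have hfix : (n₂⁻¹ * (g * n₁ * g⁻¹)) • a = a := by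
        have hginv : g⁻¹ • a = a := by rw [inv_smul_eq_iff, hga]
        rw [mul_smul, mul_smul, mul_smul, hginv, hg, inv_smul_smul]
      have := hreg _ hmem hfix
      exact (inv_mul_eq_one.1 this).symm
    rw [← hc]
    have := MulEquiv.orderOf_eq (MulAut.conj g) n₁
    rw [MulAut.conj_apply] at this
    exact this.symm
  haveI hNt : IsPretransitive N α := ⟨fun b c => by
    obtain ⟨m, hm, hmb⟩ := htrans b c
    exact ⟨⟨m, hm⟩, hmb⟩⟩
  have hstabN : stabilizer N a = ⊥ := by
    rw [Subgroup.eq_bot_iff_forall]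
    intro m hm
    apply Subtype.ext
    exact hreg m m.2 (mem_stabilizer_iff.1 hm)
  have hNcard : Nat.card N = Nat.card α := by
    rw [← Subgroup.index_bot, ← hstabN, index_stabilizer_of_transitive]
  haveI : Nonempty α := ⟨a⟩
  haveI : Finite N := Nat.finite_of_card_ne_zero (by rw [hNcard]; exact Nat.card_pos.ne')
  haveI : Fact p.Prime := ⟨hp⟩
  haveI : Fact q.Prime := ⟨hq⟩
  obtain ⟨u, hu⟩ := exists_prime_orderOf_dvd_card' (G := N) p (by rw [hNcard]; exact hpα)
  obtain ⟨v, hv⟩ := exists_prime_orderOf_dvd_card' (G := N) q (by rw [hNcard]; exact hqα)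
  have hu' : orderOf (u : G) = p := by rw [Subgroup.orderOf_coe]; exact hu
  have hv' : orderOf (v : G) = q := by rw [Subgroup.orderOf_coe]; exact hv
  have hu1 : (u : G) ≠ 1 := by
    intro h
    rw [h, orderOf_one] at hu'
    exact hp.ne_one hu'.symm
  have hv1 : (v : G) ≠ 1 := by
    intro h
    rw [h, orderOf_one] at hv'
    exact hq.ne_one hv'.symm
  have := hconj _ u.2 hu1 _ v.2 hv1
  rw [hu', hv'] at this
  exact hpq this

/-- A faithful group of prime degree `p` whose order does not divide `(p - 1) * p` has no regular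
normal subgroup. -/
theorem no_regular_normal_of_prime_card [Finite G] [Fintype α] [DecidableEq α]
    (hfaith : ∀ g : G, g ≠ 1 → ∃ a : α, g • a ≠ a) (a : α) {p : ℕ} (hp : p.Prime)
    (hα : Fintype.card α = p) (hG : ¬ Nat.card G ∣ (p - 1) * p)
    (N : Subgroup G) (hN : N.Normal)
    (htrans : ∀ b c : α, ∃ n ∈ N, n • b = c) (hreg : ∀ n ∈ N, n • a = a → n = 1) : False := by
  haveI hNt : IsPretransitive N α := ⟨fun b c => by
    obtain ⟨m, hm, hmb⟩ := htrans b c
    exact ⟨⟨m, hm⟩, hmb⟩⟩
  have hstabN : stabilizer N a = ⊥ := by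
    rw [Subgroup.eq_bot_iff_forall]
    intro m hm
    apply Subtype.ext
    exact hreg m m.2 (mem_stabilizer_iff.1 hm)
  have hNcard : Nat.card N = p := by
    rw [← Subgroup.index_bot, ← hstabN, index_stabilizer_of_transitive, Nat.card_eq_fintype_card,
      hα]
  obtain ⟨r, hr, hnorm⟩ := card_normalizer_of_prime_card hp N hNcard
  rw [Subgroup.normalizer_eq_top N, Subgroup.card_top] at hnorm
  obtain ⟨x, hxN, hx1⟩ : ∃ x ∈ N, x ≠ 1 := by
    by_contra h
    push Not at h
    have : N = ⊥ := (Subgroup.eq_bot_iff_forall N).2 h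
    rw [this, Subgroup.card_bot] at hNcard
    exact hp.ne_one hNcard.symm
  obtain ⟨hord, hcent⟩ := centralizer_eq_of_prime_card hp N hNcard hxN hx1
  obtain ⟨k, hk, hdvd⟩ := card_centralizer_dvd_of_prime hfaith hp hord
  have hf : (Finset.univ.filter (fun b : α => x • b = b)).card = 0 := by
    rw [Finset.card_eq_zero, Finset.filter_eq_empty_iff]
    intro b _ hb
    obtain ⟨m, hm, hmb⟩ := htrans a b
    have h1 : m⁻¹ * x * m = 1 :=
      hreg _ (N.mul_mem (N.mul_mem (N.inv_mem hm) hxN) hm)
        (by rw [mul_smul, mul_smul, hmb, hb, ← hmb, inv_smul_smul])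
    apply hx1
    have h2 : x = m * (m⁻¹ * x * m) * m⁻¹ := by group
    rw [h2, h1]
    group
  rw [hf, hα, zero_add] at hk
  have hk1 : k = 1 := by
    have h1 : p * 1 = p * k := by rw [mul_one]; exact hk
    exact (Nat.eq_of_mul_eq_mul_left hp.pos h1).symm
  rw [hf, hk1] at hdvd
  apply hG
  rw [hnorm, hcent]
  exact Nat.mul_dvd_mul hr (by simpa using hdvd)

/-- The point stabiliser of a faithful action acts faithfully on the remaining points. -/
theorem ofStabilizer_faithful (hfaith : ∀ g : G, g ≠ 1 → ∃ a : α, g • a ≠ a) (a : α)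
    (h : stabilizer G a) (hh : h ≠ 1) : ∃ b : SubMulAction.ofStabilizer G a, h • b ≠ b := by
  have hG : (h : G) ≠ 1 := fun h1 => hh (Subtype.ext h1)
  obtain ⟨b, hb⟩ := hfaith _ hG
  have hba : b ≠ a := by
    rintro rfl
    exact hb (mem_stabilizer_iff.1 h.2)
  refine ⟨⟨b, (SubMulAction.mem_ofStabilizer_iff G a).2 hba⟩, ?_⟩
  intro h1
  exact hb (congrArg Subtype.val h1)

/-- The order of a point stabiliser of a transitive action on a finite set. -/
theorem card_stabilizer_mul [Finite α] [IsPretransitive G α] (a : α) :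
    Nat.card (stabilizer G a) * Nat.card α = Nat.card G := by
  rw [← index_stabilizer_of_transitive G a]
  exact Subgroup.card_mul_index _

theorem arith_deg22 (r c m : ℕ) (hr : r ∣ 10) (hc : c ∣ 242) (h : r * c * m = 443520)
    (hmod : m % 11 = 1) : r * c = 55 := by
  have hr' : r ∈ Nat.divisors 10 := Nat.mem_divisors.2 ⟨hr, by norm_num⟩
  have hc' : c ∈ Nat.divisors 242 := Nat.mem_divisors.2 ⟨hc, by norm_num⟩
  have h10 : Nat.divisors 10 = {1, 2, 5, 10} := by decide
  have h242 : Nat.divisors 242 = {1, 2, 11, 22, 121, 242} := by decide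
  rw [h10] at hr'
  rw [h242] at hc'
  simp only [Finset.mem_insert, Finset.mem_singleton] at hr' hc'
  rcases hr' with rfl | rfl | rfl | rfl <;> rcases hc' with rfl | rfl | rfl | rfl | rfl | rfl <;>
    omega

/-- A faithful `3`-transitive group of degree `22` and order `443520` is simple. -/
theorem simple_deg22 [Finite α] (hα : Nat.card α = 22) (h3 : IsMultiplyPretransitive G α 3)
    (hfaith : ∀ g : G, g ≠ 1 → ∃ a : α, g • a ≠ a) (hG : Nat.card G = 443520) :
    IsSimpleGroup G := by
  classical
  haveI := Fintype.ofFinite α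
  have hcard : Fintype.card α = 22 := by rw [← Nat.card_eq_fintype_card]; exact hα
  haveI : Finite G := Nat.finite_of_card_ne_zero (by rw [hG]; norm_num)
  haveI : Nontrivial G := Finite.one_lt_card_iff_nontrivial.1 (by rw [hG]; norm_num)
  have h2 : IsMultiplyPretransitive G α 2 :=
    isMultiplyPretransitive_of_le (n := 3) (by norm_num) (by rw [hα]; norm_num)
  haveI h1 : IsPretransitive G α := isPretransitive_of_is_two_pretransitive (h2 := h2)
  have hstab : ∀ a : α, Nat.card (stabilizer G a) = 20160 := by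
    intro a
    have := card_stabilizer_mul (G := G) a
    rw [hα, hG] at this
    omega
  have hstab2 : ∀ a b : α, a ≠ b → Nat.card ↥(stabilizer G a ⊓ stabilizer G b) = 960 := by
    intro a b hab
    have h := card_eq_ncard_orbit_mul_card_inf (stabilizer G a) b
    have horb : orbit (stabilizer G a) b = {a}ᶜ := by
      ext x
      rw [Set.mem_compl_iff, Set.mem_singleton_iff]
      constructor
      · rintro ⟨h, rfl⟩ hcon
        have h3 : (h : G) • a = a := h.2
        have h4 : (h : G) • b = (h : G) • a := Eq.trans hcon h3.symm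
        exact hab (MulAction.injective _ h4).symm
      · intro hx
        obtain ⟨g, hg1, hg2⟩ := (is_two_pretransitive_iff.mp h2) hab (Ne.symm hx)
        exact ⟨⟨g, hg1⟩, hg2⟩
    rw [horb, Set.ncard_compl, Set.ncard_singleton, hα, hstab a] at h
    omega
  have hfix11 : ∀ x : G, orderOf x = 11 →
      (Finset.univ.filter (fun a : α => x • a = a)).card = 0 := by
    intro x hx
    rw [Finset.card_eq_zero, Finset.filter_eq_empty_iff]
    intro a _ ha
    have h1 : orderOf (⟨x, mem_stabilizer_iff.2 ha⟩ : stabilizer G a) ∣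
        Nat.card (stabilizer G a) := orderOf_dvd_natCard _
    rw [hstab a, ← Subgroup.orderOf_coe] at h1
    simp only at h1
    rw [hx] at h1
    norm_num at h1
  have hfix7 : ∀ x : G, orderOf x = 7 →
      (Finset.univ.filter (fun a : α => x • a = a)).card ≤ 1 := by
    intro x hx
    rw [Finset.card_le_one]
    intro a ha b hb
    by_contra hab
    rw [Finset.mem_filter] at ha hb
    have hmem : x ∈ stabilizer G a ⊓ stabilizer G b :=
      ⟨mem_stabilizer_iff.2 ha.2, mem_stabilizer_iff.2 hb.2⟩
    have h1 : orderOf (⟨x, hmem⟩ : ↥(stabilizer G a ⊓ stabilizer G b)) ∣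
        Nat.card ↥(stabilizer G a ⊓ stabilizer G b) := orderOf_dvd_natCard _
    rw [hstab2 a b hab, ← Subgroup.orderOf_coe] at h1
    simp only at h1
    rw [hx] at h1
    norm_num at h1
  refine ⟨fun N hN => ?_⟩
  rw [or_iff_not_imp_left]
  intro hNbot
  haveI := hN
  obtain ⟨n, hnN, hn1⟩ : ∃ n ∈ N, n ≠ 1 := by
    by_contra h
    push Not at h
    exact hNbot ((Subgroup.eq_bot_iff_forall N).2 h)
  obtain ⟨b₀, hb₀⟩ := hfaith n hn1
  have htrans : ∀ b c : α, ∃ m ∈ N, m • b = c := normal_exists_smul_eq h2 N hnN hb₀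
  haveI hNt : IsPretransitive N α := ⟨fun b c => by
    obtain ⟨m, hm, hmb⟩ := htrans b c
    exact ⟨⟨m, hm⟩, hmb⟩⟩
  have hNcard : Nat.card (stabilizer N b₀) * 22 = Nat.card N := by
    rw [← hα, ← index_stabilizer_of_transitive N b₀]
    exact Subgroup.card_mul_index _
  have h11N : 11 ∣ Nat.card N := by
    rw [← hNcard]
    exact Dvd.dvd.mul_left (by norm_num) _
  have hNidx := Subgroup.card_mul_index N
  rw [hG] at hNidx
  -- Sylow 11
  obtain ⟨Q, hQ, hQN, m, hm, hmod, hidx, hnd⟩ := sylow_frattini (p := 11) (by norm_num)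
    (by rw [hG]; norm_num) (by rw [hG]; norm_num) N h11N
  obtain ⟨x, hxQ, hx1⟩ : ∃ x ∈ Q, x ≠ 1 := by
    by_contra h
    push Not at h
    have : Q = ⊥ := (Subgroup.eq_bot_iff_forall Q).2 h
    rw [this, Subgroup.card_bot] at hQ
    norm_num at hQ
  obtain ⟨hord, hcent⟩ := centralizer_eq_of_prime_card (by norm_num) Q hQ hxQ hx1
  obtain ⟨k, hk, hdvd⟩ := card_centralizer_dvd_of_prime hfaith (by norm_num : Nat.Prime 11) hord
  rw [hfix11 x hord, hcard] at hk
  have hk2 : k = 2 := by omega
  rw [hfix11 x hord, hk2] at hdvd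
  obtain ⟨r, hr, hnorm⟩ := card_normalizer_of_prime_card (by norm_num : Nat.Prime 11) Q hQ
  rw [hcent] at hnorm
  have h55 : Nat.card (Subgroup.normalizer (Q : Set G)) = 55 := by
    rw [hnorm, hG] at hm
    rw [hnorm]
    exact arith_deg22 _ _ _ hr (by simpa using hdvd) hm hmod
  rw [h55] at hidx
  have hidx' : N.index = 1 ∨ N.index = 5 := by
    have hle : N.index ≤ 55 := Nat.le_of_dvd (by norm_num) hidx
    have hpos : 0 < N.index := Nat.pos_of_dvd_of_pos hidx (by norm_num)
    generalize N.index = i at hidx hnd hle hpos ⊢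
    interval_cases i <;> omega
  rcases hidx' with h1 | h5
  · exact Subgroup.index_eq_one.1 h1
  · exfalso
    rw [h5] at hNidx
    have hN88704 : Nat.card N = 88704 := by omega
    have h7N : 7 ∣ Nat.card N := by rw [hN88704]; norm_num
    obtain ⟨Q7, hQ7, hQ7N, m7, hm7, hmod7, hidx7, hnd7⟩ := sylow_frattini (p := 7) (by norm_num)
      (by rw [hG]; norm_num) (by rw [hG]; norm_num) N h7N
    obtain ⟨z, hzQ, hz1⟩ : ∃ z ∈ Q7, z ≠ 1 := by
      by_contra h
      push Not at h
      have : Q7 = ⊥ := (Subgroup.eq_bot_iff_forall Q7).2 h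
      rw [this, Subgroup.card_bot] at hQ7
      norm_num at hQ7
    obtain ⟨hord7, hcent7⟩ := centralizer_eq_of_prime_card (by norm_num) Q7 hQ7 hzQ hz1
    obtain ⟨k7, hk7, hdvd7⟩ :=
      card_centralizer_dvd_of_prime hfaith (by norm_num : Nat.Prime 7) hord7
    have hf7 := hfix7 z hord7
    rw [hcard] at hk7
    have hf1 : (Finset.univ.filter (fun a : α => z • a = a)).card = 1 := by omega
    have hk3 : k7 = 3 := by omega
    rw [hf1, hk3] at hdvd7
    have h2058 : Nat.factorial 1 * 7 ^ 3 * Nat.factorial 3 = 2058 := by decide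
    rw [h2058] at hdvd7
    obtain ⟨r7, hr7, hnorm7⟩ := card_normalizer_of_prime_card (by norm_num : Nat.Prime 7) Q7 hQ7
    rw [hcent7] at hnorm7
    rw [h5, hnorm7] at hidx7
    have : 5 ∣ 6 * 2058 := hidx7.trans (Nat.mul_dvd_mul hr7 hdvd7)
    norm_num at this

/-- A faithful `4`-transitive group of degree `23` and order `10200960` is simple. -/
theorem simple_deg23 [Finite α] (hα : Nat.card α = 23) (h4 : IsMultiplyPretransitive G α 4)
    (hfaith : ∀ g : G, g ≠ 1 → ∃ a : α, g • a ≠ a) (hG : Nat.card G = 10200960) :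
    IsSimpleGroup G := by
  classical
  haveI := Fintype.ofFinite α
  have hcard : Fintype.card α = 23 := by rw [← Nat.card_eq_fintype_card]; exact hα
  haveI : Finite G := Nat.finite_of_card_ne_zero (by rw [hG]; norm_num)
  haveI : Nontrivial G := Finite.one_lt_card_iff_nontrivial.1 (by rw [hG]; norm_num)
  have h2 : IsMultiplyPretransitive G α 2 :=
    isMultiplyPretransitive_of_le (n := 4) (by norm_num) (by rw [hα]; norm_num)
  haveI h1 : IsPretransitive G α := isPretransitive_of_is_two_pretransitive (h2 := h2)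
  obtain ⟨a⟩ : Nonempty α := Fintype.card_pos_iff.1 (by rw [hcard]; norm_num)
  have h3' : IsMultiplyPretransitive (stabilizer G a) (SubMulAction.ofStabilizer G a) 3 :=
    SubMulAction.ofStabilizer.isMultiplyPretransitive.1 h4
  have hΩ : Nat.card (SubMulAction.ofStabilizer G a) = 22 := by
    rw [SubMulAction.nat_card_ofStabilizer_eq G a, hα]
  have hH : Nat.card (stabilizer G a) = 443520 := by
    have := card_stabilizer_mul (G := G) a
    rw [hα, hG] at this
    omega
  have hs : IsSimpleGroup (stabilizer G a) :=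
    simple_deg22 hΩ h3' (ofStabilizer_faithful hfaith a) hH
  apply simple_of_stabilizer_simple h2 hfaith a hs
  intro N hN htrans hreg
  exact no_regular_normal_of_prime_card hfaith a (p := 23) (by norm_num) hcard
    (by rw [hG]; norm_num) N hN htrans hreg

/-- A faithful `5`-transitive group of degree `24` and order `244823040` is simple. -/
theorem simple_deg24 [Finite α] (hα : Nat.card α = 24) (h5 : IsMultiplyPretransitive G α 5)
    (hfaith : ∀ g : G, g ≠ 1 → ∃ a : α, g • a ≠ a) (hG : Nat.card G = 244823040) :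
    IsSimpleGroup G := by
  classical
  haveI := Fintype.ofFinite α
  have hcard : Fintype.card α = 24 := by rw [← Nat.card_eq_fintype_card]; exact hα
  haveI : Finite G := Nat.finite_of_card_ne_zero (by rw [hG]; norm_num)
  haveI : Nontrivial G := Finite.one_lt_card_iff_nontrivial.1 (by rw [hG]; norm_num)
  have h2 : IsMultiplyPretransitive G α 2 :=
    isMultiplyPretransitive_of_le (n := 5) (by norm_num) (by rw [hα]; norm_num)
  haveI h1 : IsPretransitive G α := isPretransitive_of_is_two_pretransitive (h2 := h2)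
  obtain ⟨a⟩ : Nonempty α := Fintype.card_pos_iff.1 (by rw [hcard]; norm_num)
  have h4' : IsMultiplyPretransitive (stabilizer G a) (SubMulAction.ofStabilizer G a) 4 :=
    SubMulAction.ofStabilizer.isMultiplyPretransitive.1 h5
  have hΩ : Nat.card (SubMulAction.ofStabilizer G a) = 23 := by
    rw [SubMulAction.nat_card_ofStabilizer_eq G a, hα]
  have hH : Nat.card (stabilizer G a) = 10200960 := by
    have := card_stabilizer_mul (G := G) a
    rw [hα, hG] at this
    omega
  have hs : IsSimpleGroup (stabilizer G a) :=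
    simple_deg23 hΩ h4' (ofStabilizer_faithful hfaith a) hH
  apply simple_of_stabilizer_simple h2 hfaith a hs
  intro N hN htrans hreg
  exact no_regular_normal_of_two_primes h2 a (p := 2) (q := 3) Nat.prime_two Nat.prime_three
    (by norm_num) (by rw [hα]; norm_num) (by rw [hα]; norm_num) N hN htrans hreg

end PermSimple

end Cfsg.Agent.H10
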