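import Mathlib
import Cfsg.Prelude.Def_Sporadic_a

set_option autoImplicit false

namespace Cfsg.Agent.H10

open Cfsg

section DoubleCount

variable {α : Type*} [DecidableEq α]

theorem card_inter_eq_sum (d S : Finset α) :
    (d ∩ S).card = ∑ x ∈ S, if x ∈ d then 1 else 0 := by
  rw [Finset.card_eq_sum_ones, Finset.inter_comm, ← Finset.filter_mem_eq_inter, Finset.sum_filter]

theorem sum_card_inter (BF : Finset (Finset α)) (S : Finset α) :
    ∑ d ∈ BF, (d ∩ S).card = ∑ x ∈ S, (BF.filter (fun d => x ∈ d)).card := by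
  simp_rw [card_inter_eq_sum, Finset.card_eq_sum_ones, Finset.sum_filter]
  exact Finset.sum_comm

theorem sum_card_inter_mul (BF : Finset (Finset α)) (S T : Finset α) :
    ∑ d ∈ BF, (d ∩ S).card * (d ∩ T).card =
      ∑ x ∈ S, ∑ y ∈ T, (BF.filter (fun d => x ∈ d ∧ y ∈ d)).card := by
  have h : ∀ d : Finset α, (d ∩ S).card * (d ∩ T).card =
      ∑ x ∈ S, ∑ y ∈ T, if x ∈ d ∧ y ∈ d then 1 else 0 := by
    intro d
    rw [card_inter_eq_sum, card_inter_eq_sum, Finset.sum_mul_sum]
    refine Finset.sum_congr rfl (fun x _ => Finset.sum_congr rfl (fun y _ => ?_))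
    by_cases hx : x ∈ d <;> by_cases hy : y ∈ d <;> simp [hx, hy]
  simp_rw [h, Finset.card_eq_sum_ones, Finset.sum_filter]
  rw [Finset.sum_comm]
  refine Finset.sum_congr rfl (fun x _ => ?_)
  rw [Finset.sum_comm]

end DoubleCount

section Steiner

open Classical in
/-- The blocks of a set system on a finite type, as a finset. -/
noncomputable def blockFinset {α : Type*} [Fintype α] [DecidableEq α] (B : Set (Finset α)) :
    Finset (Finset α) := Finset.univ.filter (fun b => b ∈ B)

theorem mem_blockFinset {α : Type*} [Fintype α] [DecidableEq α] {B : Set (Finset α)}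
    {b : Finset α} : b ∈ blockFinset B ↔ b ∈ B := by
  classical
  simp [blockFinset]

variable {α : Type*} [Fintype α] [DecidableEq α] {B : Set (Finset α)}

/-- three distinct points lie in exactly one block -/
theorem steiner3_card_three (hB : IsSteinerSystem 3 6 B) {x y z : α} (hxy : x ≠ y) (hxz : x ≠ z)
    (hyz : y ≠ z) :
    ((blockFinset B).filter (fun d => x ∈ d ∧ y ∈ d ∧ z ∈ d)).card = 1 := by
  have hs : ({x, y, z} : Finset α).card = 3 := by
    rw [Finset.card_insert_of_notMem, Finset.card_insert_of_notMem, Finset.card_singleton]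
    · simpa using hyz
    · simp [hxy, hxz]
  obtain ⟨b, ⟨hb, hsb⟩, huniq⟩ := hB.2 _ hs
  rw [Finset.card_eq_one]
  refine ⟨b, ?_⟩
  ext d
  simp only [Finset.mem_filter, mem_blockFinset, Finset.mem_singleton]
  constructor
  · rintro ⟨hd, hx, hy, hz⟩
    apply huniq
    refine ⟨hd, ?_⟩
    intro a ha
    simp only [Finset.mem_insert, Finset.mem_singleton] at ha
    rcases ha with rfl | rfl | rfl <;> assumption
  · rintro rfl
    refine ⟨hb, hsb (by simp), hsb (by simp), hsb (by simp)⟩

/-- two distinct points lie in exactly five blocks -/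
theorem steiner3_card_two (hα : Fintype.card α = 22) (hB : IsSteinerSystem 3 6 B) {x y : α}
    (hxy : x ≠ y) :
    ((blockFinset B).filter (fun d => x ∈ d ∧ y ∈ d)).card = 5 := by
  set D := (blockFinset B).filter (fun d => x ∈ d ∧ y ∈ d) with hD
  have hS : ((Finset.univ : Finset α) \ {x, y}).card = 20 := by
    rw [Finset.card_sdiff_of_subset (Finset.subset_univ _), Finset.card_univ, hα, Finset.card_pair hxy]
  have h1 := sum_card_inter D ((Finset.univ : Finset α) \ {x, y})
  have h2 : ∀ d ∈ D, (d ∩ ((Finset.univ : Finset α) \ {x, y})).card = 4 := by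
    intro d hd
    rw [hD, Finset.mem_filter, mem_blockFinset] at hd
    obtain ⟨hdB, hx, hy⟩ := hd
    have : d ∩ ((Finset.univ : Finset α) \ {x, y}) = d \ {x, y} := by
      ext a; simp
    rw [this, Finset.card_sdiff_of_subset, hB.1 d hdB, Finset.card_pair hxy]
    intro a ha
    simp only [Finset.mem_insert, Finset.mem_singleton] at ha
    rcases ha with rfl | rfl <;> assumption
  have h3 : ∀ z ∈ ((Finset.univ : Finset α) \ {x, y}), (D.filter (fun d => z ∈ d)).card = 1 := by
    intro z hz
    simp only [Finset.mem_sdiff, Finset.mem_univ, Finset.mem_insert, Finset.mem_singleton,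
      true_and, not_or] at hz
    rw [hD, Finset.filter_filter]
    have := steiner3_card_three hB hxy (Ne.symm hz.1) (Ne.symm hz.2)
    convert this using 2
    ext d; simp [and_assoc]
  rw [Finset.sum_congr rfl h2, Finset.sum_congr rfl h3, Finset.sum_const, Finset.sum_const, hS] at h1
  simp only [smul_eq_mul] at h1
  omega

/-- every point lies in exactly 21 blocks -/
theorem steiner3_card_one (hα : Fintype.card α = 22) (hB : IsSteinerSystem 3 6 B) (x : α) :
    ((blockFinset B).filter (fun d => x ∈ d)).card = 21 := by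
  set D := (blockFinset B).filter (fun d => x ∈ d) with hD
  have hS : ((Finset.univ : Finset α) \ {x}).card = 21 := by
    rw [Finset.card_sdiff_of_subset (Finset.subset_univ _), Finset.card_univ, hα, Finset.card_singleton]
  have h1 := sum_card_inter D ((Finset.univ : Finset α) \ {x})
  have h2 : ∀ d ∈ D, (d ∩ ((Finset.univ : Finset α) \ {x})).card = 5 := by
    intro d hd
    rw [hD, Finset.mem_filter, mem_blockFinset] at hd
    obtain ⟨hdB, hx⟩ := hd
    have : d ∩ ((Finset.univ : Finset α) \ {x}) = d \ {x} := by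
      ext a; simp
    rw [this, Finset.card_sdiff_of_subset, hB.1 d hdB, Finset.card_singleton]
    intro a ha
    simp only [Finset.mem_singleton] at ha
    rcases ha with rfl; assumption
  have h3 : ∀ z ∈ ((Finset.univ : Finset α) \ {x}), (D.filter (fun d => z ∈ d)).card = 5 := by
    intro z hz
    simp only [Finset.mem_sdiff, Finset.mem_univ, Finset.mem_singleton, true_and] at hz
    rw [hD, Finset.filter_filter]
    exact steiner3_card_two hα hB (Ne.symm hz)
  rw [Finset.sum_congr rfl h2, Finset.sum_congr rfl h3, Finset.sum_const, Finset.sum_const, hS] at h1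
  simp only [smul_eq_mul] at h1
  omega

/-- there are exactly 77 blocks -/
theorem steiner3_card_blocks (hα : Fintype.card α = 22) (hB : IsSteinerSystem 3 6 B) :
    (blockFinset B).card = 77 := by
  have h1 := sum_card_inter (blockFinset B) (Finset.univ : Finset α)
  have h2 : ∀ d ∈ blockFinset B, (d ∩ (Finset.univ : Finset α)).card = 6 := by
    intro d hd
    rw [Finset.inter_univ]
    exact hB.1 d (mem_blockFinset.1 hd)
  have h3 : ∀ z ∈ (Finset.univ : Finset α), ((blockFinset B).filter (fun d => z ∈ d)).card = 21 :=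
    fun z _ => steiner3_card_one hα hB z
  rw [Finset.sum_congr rfl h2, Finset.sum_congr rfl h3, Finset.sum_const, Finset.sum_const,
    Finset.card_univ, hα] at h1
  simp only [smul_eq_mul] at h1
  omega

/-- the number of blocks through two (possibly equal) points -/
theorem steiner3_card_pair (hα : Fintype.card α = 22) (hB : IsSteinerSystem 3 6 B) (x y : α) :
    ((blockFinset B).filter (fun d => x ∈ d ∧ y ∈ d)).card = 5 + if x = y then 16 else 0 := by
  by_cases h : x = y
  · subst h
    simp only [and_self, if_true]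
    exact steiner3_card_one hα hB x
  · simp only [h, if_false, add_zero]
    exact steiner3_card_two hα hB h

theorem steiner3_sum_inter (hα : Fintype.card α = 22) (hB : IsSteinerSystem 3 6 B)
    (S : Finset α) :
    ∑ d ∈ blockFinset B, (d ∩ S).card = 21 * S.card := by
  rw [sum_card_inter, Finset.sum_congr rfl (fun x _ => steiner3_card_one hα hB x),
    Finset.sum_const, smul_eq_mul, mul_comm]

theorem steiner3_sum_inter_mul (hα : Fintype.card α = 22) (hB : IsSteinerSystem 3 6 B)
    (S T : Finset α) :
    ∑ d ∈ blockFinset B, (d ∩ S).card * (d ∩ T).card = 5 * (S.card * T.card) + 16 * (S ∩ T).card := by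
  rw [sum_card_inter_mul]
  have h : ∀ x ∈ S, ∑ y ∈ T, ((blockFinset B).filter (fun d => x ∈ d ∧ y ∈ d)).card =
      5 * T.card + 16 * (if x ∈ T then 1 else 0) := by
    intro x _
    rw [Finset.sum_congr rfl (fun y _ => steiner3_card_pair hα hB x y), Finset.sum_add_distrib,
      Finset.sum_const, smul_eq_mul, mul_comm]
    congr 1
    rw [Finset.sum_ite_eq]
    split_ifs <;> simp
  rw [Finset.sum_congr rfl h, Finset.sum_add_distrib, Finset.sum_const, smul_eq_mul,
    ← Finset.mul_sum, ← card_inter_eq_sum T S, Finset.inter_comm T S]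
  ring

omit [Fintype α] in
/-- distinct blocks meet in at most two points -/
theorem steiner3_inter_le (hB : IsSteinerSystem 3 6 B) {b d : Finset α} (hb : b ∈ B) (hd : d ∈ B)
    (hne : d ≠ b) : (d ∩ b).card ≤ 2 := by
  by_contra hcon
  obtain ⟨s, hs, hcard⟩ := Finset.exists_subset_card_eq (show 3 ≤ (d ∩ b).card by omega)
  obtain ⟨e, -, huniq⟩ := hB.2 s hcard
  have h1 := huniq b ⟨hb, hs.trans Finset.inter_subset_right⟩
  have h2 := huniq d ⟨hd, hs.trans Finset.inter_subset_left⟩
  exact hne (h2.trans h1.symm)

/-- sums over the blocks other than `b` -/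
theorem steiner3_erase_sums (hα : Fintype.card α = 22) (hB : IsSteinerSystem 3 6 B)
    {b : Finset α} (hb : b ∈ B) :
    ((blockFinset B).erase b).card = 76 ∧
    ∑ d ∈ (blockFinset B).erase b, (d ∩ b).card = 120 ∧
    ∑ d ∈ (blockFinset B).erase b, (d ∩ b).card * (d ∩ b).card = 240 := by
  have hbF : b ∈ blockFinset B := mem_blockFinset.2 hb
  have hcard : b.card = 6 := hB.1 b hb
  refine ⟨?_, ?_, ?_⟩
  · rw [Finset.card_erase_of_mem hbF, steiner3_card_blocks hα hB]
  · have h1 := steiner3_sum_inter hα hB b
    rw [← Finset.add_sum_erase _ _ hbF, Finset.inter_self, hcard] at h1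
    omega
  · have h1 := steiner3_sum_inter_mul hα hB b b
    rw [← Finset.add_sum_erase _ _ hbF, Finset.inter_self, hcard] at h1
    omega

/-- distinct blocks meet in zero or two points -/
theorem steiner3_inter_zero_or_two (hα : Fintype.card α = 22) (hB : IsSteinerSystem 3 6 B)
    {b d : Finset α} (hb : b ∈ B) (hd : d ∈ B) (hne : d ≠ b) :
    (d ∩ b).card = 0 ∨ (d ∩ b).card = 2 := by
  obtain ⟨-, h1, h2⟩ := steiner3_erase_sums hα hB hb
  have hle : ∀ e ∈ (blockFinset B).erase b, (e ∩ b).card * (e ∩ b).card ≤ 2 * (e ∩ b).card := by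
    intro e he
    rw [Finset.mem_erase, mem_blockFinset] at he
    have := steiner3_inter_le hB hb he.2 he.1
    exact Nat.mul_le_mul_right _ this
  have heq : ∑ e ∈ (blockFinset B).erase b, (e ∩ b).card * (e ∩ b).card =
      ∑ e ∈ (blockFinset B).erase b, 2 * (e ∩ b).card := by
    rw [← Finset.mul_sum, h1, h2]; norm_num
  have h3 := (Finset.sum_eq_sum_iff_of_le hle).1 heq d
    (Finset.mem_erase.2 ⟨hne, mem_blockFinset.2 hd⟩)
  have h4 := steiner3_inter_le hB hb hd hne
  generalize (d ∩ b).card = n at h3 h4
  interval_cases n <;> simp_all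

omit [Fintype α] in
theorem disjoint_iff_card_inter {b d : Finset α} : Disjoint b d ↔ (d ∩ b).card = 0 := by
  rw [Finset.card_eq_zero, Finset.inter_comm, Finset.disjoint_iff_inter_eq_empty]

theorem steiner3_indicator (hα : Fintype.card α = 22) (hB : IsSteinerSystem 3 6 B)
    {b d : Finset α} (hb : b ∈ B) (hd : d ∈ B) (hne : d ≠ b) :
    (d ∩ b).card + 2 * (if Disjoint b d then 1 else 0) = 2 := by
  rcases steiner3_inter_zero_or_two hα hB hb hd hne with h | h
  · rw [if_pos (disjoint_iff_card_inter.2 h), h]
  · rw [if_neg (fun hdis => by rw [disjoint_iff_card_inter.1 hdis] at h; omega), h]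

omit [Fintype α] in
theorem steiner3_not_disjoint_self (hB : IsSteinerSystem 3 6 B) {b : Finset α} (hb : b ∈ B) :
    ¬ Disjoint b b := by
  rw [disjoint_iff_card_inter, Finset.inter_self, hB.1 b hb]
  omega

/-- exactly 16 blocks are disjoint from a given block -/
theorem steiner3_card_disjoint (hα : Fintype.card α = 22) (hB : IsSteinerSystem 3 6 B)
    {b : Finset α} (hb : b ∈ B) :
    ((blockFinset B).filter (fun d => Disjoint b d)).card = 16 := by
  obtain ⟨h0, h1, -⟩ := steiner3_erase_sums hα hB hb
  have hfilter : (blockFinset B).filter (fun d => Disjoint b d) =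
      ((blockFinset B).erase b).filter (fun d => Disjoint b d) := by
    ext d
    simp only [Finset.mem_filter, Finset.mem_erase]
    constructor
    · rintro ⟨hd, hdis⟩
      exact ⟨⟨fun h => steiner3_not_disjoint_self hB hb (h ▸ hdis), hd⟩, hdis⟩
    · rintro ⟨⟨-, hd⟩, hdis⟩
      exact ⟨hd, hdis⟩
  rw [hfilter]
  have hsum : ∑ d ∈ (blockFinset B).erase b, ((d ∩ b).card + 2 * (if Disjoint b d then 1 else 0)) =
      ∑ d ∈ (blockFinset B).erase b, 2 := by
    apply Finset.sum_congr rfl
    intro d hd
    rw [Finset.mem_erase, mem_blockFinset] at hd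
    exact steiner3_indicator hα hB hb hd.2 hd.1
  rw [Finset.sum_add_distrib, h1, ← Finset.mul_sum, Finset.sum_const, h0, smul_eq_mul,
    Finset.sum_boole] at hsum
  simp only [Nat.cast_id] at hsum
  omega

/-- for two distinct blocks, the number of blocks disjoint from both is twice the size of their
intersection -/
theorem steiner3_card_disjoint_two (hα : Fintype.card α = 22) (hB : IsSteinerSystem 3 6 B)
    {b c : Finset α} (hb : b ∈ B) (hc : c ∈ B) (hne : b ≠ c) :
    ((blockFinset B).filter (fun d => Disjoint b d ∧ Disjoint c d)).card = 2 * (b ∩ c).card := by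
  have hbF : b ∈ blockFinset B := mem_blockFinset.2 hb
  have hcF : c ∈ (blockFinset B).erase b := Finset.mem_erase.2 ⟨Ne.symm hne, mem_blockFinset.2 hc⟩
  have hbcard : b.card = 6 := hB.1 b hb
  have hccard : c.card = 6 := hB.1 c hc
  set E := ((blockFinset B).erase b).erase c with hE
  have hEcard : E.card = 75 := by
    rw [hE, Finset.card_erase_of_mem hcF, Finset.card_erase_of_mem hbF, steiner3_card_blocks hα hB]
  have hsb : ∑ d ∈ E, (d ∩ b).card + 6 + (c ∩ b).card = 126 := by
    have h1 := steiner3_sum_inter hα hB b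
    rw [← Finset.add_sum_erase _ _ hbF, ← Finset.add_sum_erase _ _ hcF, Finset.inter_self, hbcard,
      ← hE] at h1
    omega
  have hsc : ∑ d ∈ E, (d ∩ c).card + (b ∩ c).card + 6 = 126 := by
    have h1 := steiner3_sum_inter hα hB c
    rw [← Finset.add_sum_erase _ _ hbF, ← Finset.add_sum_erase _ _ hcF, Finset.inter_self, hccard,
      ← hE] at h1
    omega
  have hsbc : ∑ d ∈ E, (d ∩ b).card * (d ∩ c).card + 6 * (b ∩ c).card + (c ∩ b).card * 6 =
      180 + 16 * (b ∩ c).card := by
    have h1 := steiner3_sum_inter_mul hα hB b c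
    rw [← Finset.add_sum_erase _ _ hbF, ← Finset.add_sum_erase _ _ hcF, Finset.inter_self,
      Finset.inter_self, hbcard, hccard, ← hE] at h1
    omega
  have hcomm : (c ∩ b).card = (b ∩ c).card := by rw [Finset.inter_comm]
  have hfilter : (blockFinset B).filter (fun d => Disjoint b d ∧ Disjoint c d) =
      E.filter (fun d => Disjoint b d ∧ Disjoint c d) := by
    ext d
    simp only [hE, Finset.mem_filter, Finset.mem_erase]
    constructor
    · rintro ⟨hd, hdis⟩
      exact ⟨⟨fun h => steiner3_not_disjoint_self hB hc (h ▸ hdis.2),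
        fun h => steiner3_not_disjoint_self hB hb (h ▸ hdis.1), hd⟩, hdis⟩
    · rintro ⟨⟨-, -, hd⟩, hdis⟩
      exact ⟨hd, hdis⟩
  rw [hfilter]
  have hsum : ∑ d ∈ E, (4 * (if Disjoint b d ∧ Disjoint c d then 1 else 0) + 2 * (d ∩ b).card +
      2 * (d ∩ c).card) = ∑ d ∈ E, (4 + (d ∩ b).card * (d ∩ c).card) := by
    apply Finset.sum_congr rfl
    intro d hd
    rw [hE, Finset.mem_erase, Finset.mem_erase, mem_blockFinset] at hd
    have h1 := steiner3_indicator hα hB hb hd.2.2 hd.2.1
    have h2 := steiner3_indicator hα hB hc hd.2.2 hd.1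
    by_cases hdb : Disjoint b d <;> by_cases hdc : Disjoint c d <;>
      simp only [hdb, hdc, if_true, if_false, and_self, and_false, false_and] at h1 h2 ⊢
    · have e1 : (d ∩ b).card = 0 := by omega
      have e2 : (d ∩ c).card = 0 := by omega
      rw [e1, e2]
    · have e1 : (d ∩ b).card = 0 := by omega
      have e2 : (d ∩ c).card = 2 := by omega
      rw [e1, e2]
    · have e1 : (d ∩ b).card = 2 := by omega
      have e2 : (d ∩ c).card = 0 := by omega
      rw [e1, e2]
    · have e1 : (d ∩ b).card = 2 := by omega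
      have e2 : (d ∩ c).card = 2 := by omega
      rw [e1, e2]
  rw [Finset.sum_add_distrib, Finset.sum_add_distrib, Finset.sum_add_distrib, ← Finset.mul_sum,
    ← Finset.mul_sum, ← Finset.mul_sum, Finset.sum_const, hEcard, smul_eq_mul,
    Finset.sum_boole] at hsum
  simp only [Nat.cast_id] at hsum
  omega

/-- a point off a block lies in exactly 6 blocks disjoint from it -/
theorem steiner3_card_point_disjoint (hα : Fintype.card α = 22) (hB : IsSteinerSystem 3 6 B)
    {b : Finset α} (hb : b ∈ B) {p : α} (hp : p ∉ b) :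
    ((blockFinset B).filter (fun d => p ∈ d ∧ Disjoint b d)).card = 6 := by
  set D := (blockFinset B).filter (fun d => p ∈ d) with hD
  have hDcard : D.card = 21 := steiner3_card_one hα hB p
  have h1 := sum_card_inter D b
  have h3 : ∀ y ∈ b, (D.filter (fun d => y ∈ d)).card = 5 := by
    intro y hy
    rw [hD, Finset.filter_filter]
    exact steiner3_card_two hα hB (fun h => hp (h ▸ hy))
  rw [Finset.sum_congr rfl h3, Finset.sum_const, hB.1 b hb, smul_eq_mul] at h1
  have hsum : ∑ d ∈ D, ((d ∩ b).card + 2 * (if Disjoint b d then 1 else 0)) = ∑ d ∈ D, 2 := by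
    apply Finset.sum_congr rfl
    intro d hd
    rw [hD, Finset.mem_filter, mem_blockFinset] at hd
    exact steiner3_indicator hα hB hb hd.1 (fun h => hp (h ▸ hd.2))
  rw [Finset.sum_add_distrib, h1, ← Finset.mul_sum, Finset.sum_const, hDcard, smul_eq_mul,
    Finset.sum_boole] at hsum
  simp only [Nat.cast_id] at hsum
  have h6 : (D.filter (fun d => Disjoint b d)).card = 6 := by omega
  rw [← Finset.filter_filter, ← hD]
  exact h6

end Steiner

end Cfsg.Agent.H10
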