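import Cfsg.Agent.H10.WG

/-!
# Subgroups generated by word lists (helper10)

Small lemmas used by the generated tower files (the same statements as in `SuzT/Upper.lean`,
kept separate so that other towers do not depend on the Suz data).
-/

set_option autoImplicit false

namespace Cfsg.Agent.H10

open Cfsg.Agent.H35

/-- the subgroup generated by a list of words -/
def swGrp {γ : Type} {G : Type*} [Group G] (gen : γ → G) (sw : List (List γ)) : Subgroup G :=
  Subgroup.closure {g | ∃ w ∈ sw, g = uw gen w}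

theorem mem_swGrp {γ : Type} {G : Type*} [Group G] (gen : γ → G) (sw : List (List γ))
    (w : List γ) (hw : w ∈ sw) : uw gen w ∈ swGrp gen sw :=
  Subgroup.subset_closure ⟨w, hw, rfl⟩

theorem swGrp_le_range {γ : Type} {G' : Type*} [Group G'] {Q : Type*} [Group Q] (gen' : γ → G')
    (genQ : γ → Q) (S : γ → Bool) (φ : Q →* G') (hφ : ∀ x, S x = true → φ (genQ x) = gen' x)
    (sw : List (List γ)) (hsw : sw.all (fun w => w.all S) = true) :
    swGrp gen' sw ≤ φ.range := by
  unfold swGrp
  rw [Subgroup.closure_le]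
  rintro g ⟨w, hw, rfl⟩
  rw [List.all_eq_true] at hsw
  have hwS := hsw w hw
  have key : ∀ u : List γ, u.all S = true → φ (uw genQ u) = uw gen' u := by
    intro u
    induction u with
    | nil => intro _; simp [uw]
    | cons x u ih =>
      intro hu
      rw [List.all_cons, Bool.and_eq_true] at hu
      rw [uw_cons, uw_cons, map_mul, hφ x hu.1, ih hu.2]
  exact ⟨uw genQ w, key w hwS⟩

/-- a replay bound over the trivial subgroup bounds the order -/
theorem card_le_of_trivial {γ : Type} {G : Type*} [Group G] (gen : γ → G) (N : ℕ)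
    (hb : Finite (G ⧸ swGrp gen ([] : List (List γ))) ∧
      Nat.card (G ⧸ swGrp gen ([] : List (List γ))) ≤ N) :
    Finite G ∧ Nat.card G ≤ N := by
  have hbot : swGrp gen ([] : List (List γ)) ≤ (Subgroup.subtype (⊥ : Subgroup G)).range := by
    unfold swGrp
    rw [Subgroup.closure_le]
    rintro g ⟨w, hw, rfl⟩
    exact absurd hw (by simp)
  have := card_le_tower _ N hb (Subgroup.subtype (⊥ : Subgroup G)) hbot 1
    (by rw [Subgroup.card_bot])
  simpa using this

/-- In a group whose order is not divisible by `p ^ (k + 1)`, a normal subgroup of order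
divisible by `p ^ k` contains every element of order dividing `p`. -/
theorem mem_normal_of_pow_prime_pow {G : Type*} [Group G] [Finite G] (p : ℕ) [hp : Fact p.Prime]
    (k : ℕ) (hpp : ¬ p ^ (k + 1) ∣ Nat.card G) (N : Subgroup G) [N.Normal]
    (hN : p ^ k ∣ Nat.card N) (a : G) (ha : a ^ p = 1) : a ∈ N := by
  have hcop : ¬ p ∣ Nat.card (G ⧸ N) := by
    intro h
    apply hpp
    rw [Subgroup.card_eq_card_quotient_mul_card_subgroup N, pow_succ, mul_comm (p ^ k) p]
    exact Nat.mul_dvd_mul h hN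
  have h1 : (QuotientGroup.mk a : G ⧸ N) ^ p = 1 := by
    rw [← QuotientGroup.mk_pow, ha]; rfl
  have h2 : orderOf (QuotientGroup.mk a : G ⧸ N) ∣ p := orderOf_dvd_of_pow_eq_one h1
  have h3 : orderOf (QuotientGroup.mk a : G ⧸ N) ∣ Nat.card (G ⧸ N) := orderOf_dvd_natCard _
  rcases (Nat.dvd_prime hp.out).mp h2 with h | h
  · rw [orderOf_eq_one_iff] at h
    exact (QuotientGroup.eq_one_iff a).mp h
  · rw [h] at h3
    exact absurd h3 hcop

section PowCol

variable {γ : Type} (D : PData γ)

/-- iterate field `j` of the table `col` -/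
noncomputable def iterFld (col : ℕ → ℕ) (j : ℕ) : ℕ → ℕ → ℕ := fun k =>
  Nat.rec (motive := fun _ => ℕ → ℕ) (fun p => p) (fun _ ih p => ih (fld 16 (col p) j)) k

theorem iterFld_zero (col : ℕ → ℕ) (j p : ℕ) : iterFld col j 0 p = p := rfl

theorem iterFld_succ (col : ℕ → ℕ) (j k p : ℕ) :
    iterFld col j (k + 1) p = iterFld col j k (fld 16 (col p) j) := rfl

/-- field `j` of `col p` is the image of `p` under the word `w`, and iterating it `k` times
returns to `p` -/
noncomputable def powColOK (col : ℕ → ℕ) (j k : ℕ) (w : List γ) (p : ℕ) : Bool :=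
  Nat.beq (D.walk w p) (fld 16 (col p) j) && Nat.beq (iterFld col j k p) p

variable {D}

theorem powCol_sound {G : Type*} [Group G] (gen : γ → G) (ρ : G →* Equiv.Perm (Fin D.N))
    (hw : ∀ (w : List γ) (p : Fin D.N), D.walk w p.val = ((ρ (uw gen w))⁻¹ p).val)
    (col : ℕ → ℕ) (j k : ℕ) (w : List γ)
    (h : ∀ p, p < D.N → powColOK D col j k w p = true) : ρ (uw gen w) ^ k = 1 := by
  have h' : ∀ p : Fin D.N, fld 16 (col p.val) j = ((ρ (uw gen w))⁻¹ p).val ∧
      iterFld col j k p.val = p.val := by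
    intro p
    have h1 := h p.val p.isLt
    unfold powColOK at h1
    rw [Bool.and_eq_true, Nat.beq_eq, Nat.beq_eq] at h1
    exact ⟨by rw [← hw]; exact h1.1.symm, h1.2⟩
  have hit : ∀ (i : ℕ) (p : Fin D.N),
      iterFld col j i p.val = (((ρ (uw gen w))⁻¹ ^ i) p).val := by
    intro i
    induction i with
    | zero => intro p; rw [iterFld_zero, pow_zero]; rfl
    | succ i ih =>
      intro p
      rw [iterFld_succ, (h' p).1, ih, pow_succ, Equiv.Perm.mul_apply]
  have h1 : (ρ (uw gen w))⁻¹ ^ k = 1 := by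
    ext p
    rw [← hit]
    exact (h' p).2
  rw [inv_pow, inv_eq_one] at h1
  exact h1

end PowCol

end Cfsg.Agent.H10

namespace Cfsg.Agent.H10

open Cfsg.Agent.H35

/-- if every point of `O` is in the orbit of a root, any two points of `O` are in one orbit -/
theorem orbit_family {G : Type*} [Group G] {n : ℕ} (ρ : G →* Equiv.Perm (Fin n))
    (K : Subgroup G) (O : Finset (Fin n)) (r : Fin n) (hO : ∀ x ∈ O, ∃ g ∈ K, ρ g r = x)
    (ω : Fin n) (hω : ω ∈ O) : ∀ x ∈ O, ∃ h ∈ K, ρ h ω = x := by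
  intro x hx
  obtain ⟨g, hg, e⟩ := hO x hx
  obtain ⟨g', hg', e'⟩ := hO ω hω
  refine ⟨g * g'⁻¹, K.mul_mem hg (K.inv_mem hg'), ?_⟩
  rw [map_mul, Equiv.Perm.mul_apply, map_inv, ← e', perm_inv_apply_self, e]

/-- a normal subgroup inside a point stabiliser of a faithful transitive action is trivial -/
theorem normal_le_stab_eq_bot {G : Type*} [Group G] {n : ℕ} (ρ : G →* Equiv.Perm (Fin n))
    (hinj : ∀ g : G, ρ g = 1 → g = 1) (b : Fin n) (htr : ∀ ω : Fin n, ∃ g : G, ρ g b = ω)
    (N : Subgroup G) [hN : N.Normal] (hle : N ≤ stabOf ρ b) : N = ⊥ := by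
  rw [Subgroup.eq_bot_iff_forall]
  intro x hx
  apply hinj
  ext ω
  obtain ⟨g, rfl⟩ := htr ω
  have h1 : g⁻¹ * x * g ∈ N := by
    have := hN.conj_mem x hx g⁻¹
    rwa [inv_inv] at this
  have h2 : ρ (g⁻¹ * x * g) b = b := hle h1
  have h3 : ρ x (ρ g b) = ρ g (ρ (g⁻¹ * x * g) b) := by
    rw [← Equiv.Perm.mul_apply, ← Equiv.Perm.mul_apply, ← map_mul, ← map_mul]
    congr 2
    group
  rw [h3, h2]; rfl

end Cfsg.Agent.H10
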