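import Cfsg.Agent.H35.TCMain

/-!
# Groups presented by word lists, and towers of sub-presentations (helper10)

`WG rws prels` is the group on involutory generators `γ` with the split relators `rws` and the
power relators `prels` (the formats of helper35's coset-table certificates).  A replay certificate
for a subgroup that is the image of another such group bounds the order.
-/

set_option autoImplicit false

namespace Cfsg.Agent.H10

open Cfsg.Agent.H35

section WG

variable {γ : Type}

/-- relator set from word lists: all generators are involutions -/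
def wgRels (rws : List (List γ × List γ)) (prels : List (List γ × ℕ × ℕ)) : Set (FreeGroup γ) :=
  {r | (∃ x, r = FreeGroup.of x * FreeGroup.of x) ∨
       (∃ p ∈ rws, r = uw FreeGroup.of (p.1 ++ p.2.reverse)) ∨
       (∃ p ∈ prels, r = uw FreeGroup.of p.1 ^ p.2.1)}

/-- the group presented by word lists -/
abbrev WG (rws : List (List γ × List γ)) (prels : List (List γ × ℕ × ℕ)) : Type :=
  PresentedGroup (wgRels rws prels)

variable (rws : List (List γ × List γ)) (prels : List (List γ × ℕ × ℕ))

/-- its generators -/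
def wgGen (x : γ) : WG rws prels := PresentedGroup.of x

theorem wg_mk_uw (w : List γ) :
    PresentedGroup.mk (wgRels rws prels) (uw FreeGroup.of w) = uw (wgGen rws prels) w := by
  rw [uw_map]
  rfl

theorem wg_inv (x : γ) : wgGen rws prels x * wgGen rws prels x = 1 := by
  have h : FreeGroup.of x * FreeGroup.of x ∈ wgRels rws prels := Or.inl ⟨x, rfl⟩
  have := PresentedGroup.one_of_mem h
  rw [map_mul] at this
  exact this

theorem wg_rws : ∀ r ∈ rws, uw (wgGen rws prels) (r.1 ++ r.2.reverse) = 1 := by
  intro r hr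
  have h : uw FreeGroup.of (r.1 ++ r.2.reverse) ∈ wgRels rws prels := Or.inr (Or.inl ⟨r, hr, rfl⟩)
  have := PresentedGroup.one_of_mem h
  rw [wg_mk_uw] at this
  exact this

theorem wg_prels : ∀ r ∈ prels, uw (wgGen rws prels) r.1 ^ r.2.1 = 1 := by
  intro r hr
  have h : uw FreeGroup.of r.1 ^ r.2.1 ∈ wgRels rws prels := Or.inr (Or.inr ⟨r, hr, rfl⟩)
  have := PresentedGroup.one_of_mem h
  rw [map_pow, wg_mk_uw] at this
  exact this

theorem wg_full_one : ∀ w ∈ fullW rws prels, uw (wgGen rws prels) w = 1 :=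
  fullW_one _ _ _ (wg_rws rws prels) (wg_prels rws prels)

theorem lift_uw {K : Type*} [Group K] (f : γ → K) (w : List γ) :
    FreeGroup.lift f (uw FreeGroup.of w) = uw f w := by
  rw [uw_map]
  congr 1
  funext x
  exact FreeGroup.lift_apply_of

theorem wg_UP {K : Type*} [Group K] (f : γ → K) (hf : ∀ x, f x * f x = 1)
    (h1 : ∀ r ∈ rws, uw f (r.1 ++ r.2.reverse) = 1)
    (h2 : ∀ r ∈ prels, uw f r.1 ^ r.2.1 = 1) :
    ∃ φ : WG rws prels →* K, ∀ x, φ (wgGen rws prels x) = f x := by
  have hr : ∀ r ∈ wgRels rws prels, FreeGroup.lift f r = 1 := by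
    rintro r (⟨x, rfl⟩ | ⟨p, hp, rfl⟩ | ⟨p, hp, rfl⟩)
    · rw [map_mul, FreeGroup.lift_apply_of]; exact hf x
    · rw [lift_uw]; exact h1 p hp
    · rw [map_pow, lift_uw]; exact h2 p hp
  exact ⟨PresentedGroup.toGroup hr, fun x => PresentedGroup.toGroup.of hr⟩

theorem wg_closure : Subgroup.closure (Set.range (wgGen rws prels)) = ⊤ :=
  PresentedGroup.closure_range_of _

end WG

section Sub

variable {γ : Type} [DecidableEq γ]

/-- the generators kept by `S`, the others sent to `1` -/
def cutGen {K : Type*} [Group K] (S : γ → Bool) (g : γ → K) (x : γ) : K :=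
  if S x then g x else 1

omit [DecidableEq γ] in
theorem uw_cutGen {K : Type*} [Group K] (S : γ → Bool) (g : γ → K) (w : List γ)
    (hw : w.all S = true) : uw (cutGen S g) w = uw g w := by
  induction w with
  | nil => rfl
  | cons x w ih =>
    rw [List.all_cons, Bool.and_eq_true] at hw
    rw [uw_cons, uw_cons, ih hw.2]
    unfold cutGen
    rw [if_pos hw.1]

/-- check that `(rwsS, prelsS)` is the sub-presentation of `(rwsT, prelsT)` on the generators
kept by `S` (the other generators are killed) -/
def subChk (S : γ → Bool) (rwsT : List (List γ × List γ)) (prelsT : List (List γ × ℕ × ℕ))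
    (rwsS : List (List γ × List γ)) (prelsS : List (List γ × ℕ × ℕ)) : Bool :=
  rwsS.all (fun r => (decide (r ∈ rwsT) && (r.1 ++ r.2.reverse).all S) ||
      (r.2.isEmpty && (r.1.length == 1 && r.1.all (fun x => !S x)))) &&
    prelsS.all (fun r => decide (r ∈ prelsT) && r.1.all S)

theorem sub_sat {K : Type*} [Group K] (S : γ → Bool) (g : γ → K)
    (rwsT : List (List γ × List γ)) (prelsT : List (List γ × ℕ × ℕ))
    (rwsS : List (List γ × List γ)) (prelsS : List (List γ × ℕ × ℕ))
    (hg1 : ∀ r ∈ rwsT, uw g (r.1 ++ r.2.reverse) = 1)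
    (hg2 : ∀ r ∈ prelsT, uw g r.1 ^ r.2.1 = 1)
    (hc : subChk S rwsT prelsT rwsS prelsS = true) :
    (∀ r ∈ rwsS, uw (cutGen S g) (r.1 ++ r.2.reverse) = 1) ∧
      (∀ r ∈ prelsS, uw (cutGen S g) r.1 ^ r.2.1 = 1) := by
  unfold subChk at hc
  rw [Bool.and_eq_true, List.all_eq_true, List.all_eq_true] at hc
  constructor
  · intro r hr
    have h := hc.1 r hr
    rw [Bool.or_eq_true] at h
    rcases h with h | h
    · rw [Bool.and_eq_true, decide_eq_true_eq] at h
      rw [uw_cutGen S g _ h.2]
      exact hg1 r h.1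
    · rw [Bool.and_eq_true, Bool.and_eq_true] at h
      obtain ⟨h1, h2, h3⟩ := h
      obtain ⟨u, v⟩ := r
      simp only [List.isEmpty_iff] at h1
      subst h1
      match u, h2, h3 with
      | [x], _, h3 =>
        simp only [List.all_cons, List.all_nil, Bool.and_true, Bool.not_eq_true'] at h3
        simp only [List.reverse_nil, List.append_nil, uw_singleton]
        unfold cutGen
        rw [if_neg (by rw [h3]; exact Bool.false_ne_true)]
  · intro r hr
    have h := hc.2 r hr
    rw [Bool.and_eq_true, decide_eq_true_eq] at h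
    rw [uw_cutGen S g _ h.2]
    exact hg2 r h.1

omit [DecidableEq γ] in
theorem cutGen_inv {K : Type*} [Group K] (S : γ → Bool) (g : γ → K) (hg : ∀ x, g x * g x = 1)
    (x : γ) : cutGen S g x * cutGen S g x = 1 := by
  unfold cutGen
  split
  · exact hg x
  · exact one_mul 1

/-- the map from a sub-presentation -/
theorem sub_hom {K : Type*} [Group K] (S : γ → Bool) (g : γ → K) (hg : ∀ x, g x * g x = 1)
    (rwsT : List (List γ × List γ)) (prelsT : List (List γ × ℕ × ℕ))
    (rwsS : List (List γ × List γ)) (prelsS : List (List γ × ℕ × ℕ))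
    (hg1 : ∀ r ∈ rwsT, uw g (r.1 ++ r.2.reverse) = 1)
    (hg2 : ∀ r ∈ prelsT, uw g r.1 ^ r.2.1 = 1)
    (hc : subChk S rwsT prelsT rwsS prelsS = true) :
    ∃ φ : WG rwsS prelsS →* K, ∀ x, S x = true → φ (wgGen rwsS prelsS x) = g x := by
  obtain ⟨h1, h2⟩ := sub_sat S g rwsT prelsT rwsS prelsS hg1 hg2 hc
  obtain ⟨φ, hφ⟩ := wg_UP rwsS prelsS (cutGen S g) (cutGen_inv S g hg) h1 h2
  refine ⟨φ, fun x hx => ?_⟩
  rw [hφ]
  unfold cutGen
  rw [if_pos hx]

end Sub

section Tower

/-- a subgroup of index at most `N` inside the image of a group of order at most `B` -/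
theorem card_le_tower {G' : Type*} [Group G'] (H : Subgroup G') (N : ℕ)
    (hidx : Finite (G' ⧸ H) ∧ Nat.card (G' ⧸ H) ≤ N) {Q : Type*} [Group Q] [Finite Q]
    (φ : Q →* G') (hH : H ≤ φ.range) (B : ℕ) (hQ : Nat.card Q ≤ B) :
    Finite G' ∧ Nat.card G' ≤ N * B := by
  obtain ⟨hfin, hle⟩ := hidx
  have hr : Finite φ.range := Finite.of_surjective φ.rangeRestrict φ.rangeRestrict_surjective
  have hHfin : Finite H := Finite.of_injective (Subgroup.inclusion hH) (Subgroup.inclusion_injective hH)
  have hcH : Nat.card H ≤ B := by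
    have h1 : Nat.card H ≤ Nat.card φ.range :=
      Nat.card_le_card_of_injective (Subgroup.inclusion hH) (Subgroup.inclusion_injective hH)
    have h2 : Nat.card φ.range ≤ Nat.card Q :=
      Nat.card_le_card_of_surjective φ.rangeRestrict φ.rangeRestrict_surjective
    omega
  have hmul : Nat.card H * H.index = Nat.card G' := Subgroup.card_mul_index H
  have hidx' : H.index = Nat.card (G' ⧸ H) := rfl
  have hpos1 : 0 < Nat.card H := Nat.card_pos
  have hpos2 : 0 < Nat.card (G' ⧸ H) := Nat.card_pos
  have hne : Nat.card G' ≠ 0 := by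
    rw [← hmul, hidx']
    exact Nat.mul_ne_zero (by omega) (by omega)
  refine ⟨Nat.finite_of_card_ne_zero hne, ?_⟩
  rw [← hmul, hidx', mul_comm]
  exact Nat.mul_le_mul hle hcH

end Tower

end Cfsg.Agent.H10
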